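/-
Data on the Sylow 2-subgroup of the double cover of the Rudvalis group: collection rules, a central series and the
classes of involutions.
-/
import Cfsg.Agent.Lib.Spor.RuMult.TwoData

set_option autoImplicit false

namespace Cfsg.Agent.Spor.RuStandard

/-- for letters a ≥ b the position of the rule with left side a b and its right side -/
def ruleTab0 : List (List (ℕ × List ℕ)) := [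
  [(0, [6, 8, 12])],
  [(1, [0, 1, 4, 6, 7, 9, 10, 11]), (2, [7, 8, 9, 10])],
  [(3, [0, 2, 3, 4, 6, 7, 10, 13, 14]), (4, [1, 2, 4, 5, 6, 8, 11, 13, 14]), (5, [9, 10, 11, 12])],
  [(6, [0, 3, 9, 10]), (7, [1, 3, 7, 12]), (8, [2, 3, 6, 7, 8, 9, 10, 11]), (9, [8, 9, 10])],
  [(10, [0, 4, 8, 9, 13]), (11, [1, 4, 8, 9, 12, 14]), (12, [2, 4, 6, 7, 8, 9, 10, 11, 14]), (13, [3, 4, 8, 9]), (14, [])],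
  [(15, [0, 5, 6, 9, 10, 11, 12, 13, 14]), (16, [1, 5, 8, 10, 12, 13, 14]), (17, [2, 5, 6, 7, 8, 12, 14]), (18, [3, 5, 8, 10, 12]), (19, [4, 5, 11, 12, 13]), (20, [12, 13])],
  [(21, [0, 6, 10, 13]), (22, [1, 6, 10, 13]), (23, [2, 6, 9, 12, 13]), (24, [3, 6, 10, 13]), (25, [4, 6]), (26, [5, 6, 11, 12, 13]), (27, [12, 14])],
  [(28, [0, 7, 8, 9, 10, 12, 14]), (29, [1, 7]), (30, [2, 7, 9, 10, 11, 13]), (31, [3, 7, 12, 14]), (32, [4, 7, 11, 13, 14]), (33, [5, 7, 12, 13]), (34, [6, 7, 11, 13, 14]), (35, [12, 14])],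
  [(36, [0, 8, 10, 13]), (37, [1, 8, 12, 14]), (38, [2, 8, 10, 11]), (39, [3, 8, 11]), (40, [4, 8, 11, 12]), (41, [5, 8, 12]), (42, [6, 8, 12]), (43, [7, 8, 13, 14]), (44, [13, 14])],
  [(45, [0, 9, 10, 11, 12, 13]), (46, [1, 9, 11, 14]), (47, [2, 9]), (48, [3, 9, 11, 12, 13, 14]), (49, [4, 9, 11, 12]), (50, [5, 9, 11, 12, 13, 14]), (51, [6, 9, 13, 14]), (52, [7, 9]), (53, [8, 9, 13, 14]), (54, [])],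
  [(55, [0, 10, 12]), (56, [1, 10, 11, 12]), (57, [2, 10]), (58, [3, 10, 12, 13, 14]), (59, [4, 10, 12, 13, 14]), (60, [5, 10, 12, 13, 14]), (61, [6, 10]), (62, [7, 10, 13, 14]), (63, [8, 10]), (64, [9, 10]), (65, [])],
  [(66, [0, 11, 12]), (67, [1, 11, 13, 14]), (68, [2, 11, 13, 14]), (69, [3, 11, 13, 14]), (70, [4, 11]), (71, [5, 11]), (72, [6, 11]), (73, [7, 11]), (74, [8, 11]), (75, [9, 11]), (76, [10, 11]), (77, [])],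
  [(78, [0, 12]), (79, [1, 12]), (80, [2, 12, 13, 14]), (81, [3, 12]), (82, [4, 12]), (83, [5, 12]), (84, [6, 12]), (85, [7, 12]), (86, [8, 12]), (87, [9, 12]), (88, [10, 12]), (89, [11, 12]), (90, [])],
  [(91, [0, 13]), (92, [1, 13]), (93, [2, 13]), (94, [3, 13]), (95, [4, 13]), (96, [5, 13]), (97, [6, 13]), (98, [7, 13]), (99, [8, 13]), (100, [9, 13]), (101, [10, 13]), (102, [11, 13]), (103, [12, 13]), (104, [])],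
  [(105, [0, 14]), (106, [1, 14]), (107, [2, 14]), (108, [3, 14]), (109, [4, 14]), (110, [5, 14]), (111, [6, 14]), (112, [7, 14]), (113, [8, 14]), (114, [9, 14]), (115, [10, 14]), (116, [11, 14]), (117, [12, 14]), (118, [13, 14]), (119, [])]]

/-- for letters a ≥ b the position of the rule with left side a b and its right side -/
def ruleTab : List (List (ℕ × List ℕ)) := ruleTab0

/-- generators adapted to a central series -/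
def serBasis0 : List (List ℕ) := [
  [5],
  [4],
  [3],
  [7],
  [6],
  [9],
  [8],
  [13],
  [10],
  [11],
  [12],
  [13, 14]]

/-- generators adapted to a central series -/
def serBasis : List (List ℕ) := serBasis0

/-- the first generator of each term -/
def serOff : List ℕ := [0, 3, 5, 7, 9, 10, 11, 12]

/-- commutators of the letters in the generators -/
def serTop0 : List (List (List ℕ)) := [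
  [[], [1, 4, 5, 8, 3], [3, 4, 2, 1], [5, 8], [6, 5, 7], [2, 0, 4, 2, 0], [7, 8], [2, 2, 3, 3], [7, 8], [0, 0, 8, 9], [10], [10], [], [], []],
  [[1, 3, 5, 4, 8], [], [1, 0, 6, 4, 11], [3, 7, 11], [0, 0, 5, 6], [6, 8, 10], [7, 8], [], [3, 3], [7, 9, 11], [9, 10], [11], [], [], []],
  [[2, 1, 4, 8, 3], [4, 6, 0, 1, 11], [], [2, 2, 3, 4, 9], [4, 2, 3, 2], [0, 0, 6, 3, 4], [0, 0, 5], [2, 6, 2, 7], [8, 9], [], [], [11], [11], [], []],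
  [[5, 8], [3, 10], [2, 2, 3, 4, 10], [], [6, 5], [1, 8, 1, 6], [7, 8], [3, 3], [9], [9, 10, 11], [10, 11], [11], [], [], []],
  [[6, 5, 7], [0, 0, 5, 6], [2, 3, 2, 4], [6, 5], [], [0, 0, 9], [], [9, 11], [9, 10], [9, 10], [10, 11], [], [], [], []],
  [[0, 2, 0, 4, 2], [1, 8, 1, 6], [6, 4, 3, 7], [6, 8, 10], [0, 0, 9], [], [0, 0, 9], [0, 0], [10], [9, 10, 11], [10, 11], [], [], [], []],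
  [[7, 8], [7, 8], [0, 0, 5], [7, 8], [], [0, 0, 9], [], [9, 11], [10], [11], [], [], [], [], []],
  [[2, 2, 3, 3], [], [2, 6, 2, 7], [3, 3], [9, 11], [0, 0], [9, 11], [], [11], [], [11], [], [], [], []],
  [[7, 8], [3, 3], [8, 9], [9], [9, 10], [10], [10], [11], [], [11], [], [], [], [], []],
  [[0, 0, 8, 9], [7, 9, 11], [], [9, 10, 11], [9, 10], [9, 10, 11], [11], [], [11], [], [], [], [], [], []],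
  [[10], [9, 10], [], [10, 11], [10, 11], [10, 11], [], [11], [], [], [], [], [], [], []],
  [[10], [11], [11], [11], [], [], [], [], [], [], [], [], [], [], []],
  [[], [], [11], [], [], [], [], [], [], [], [], [], [], [], []],
  [[], [], [], [], [], [], [], [], [], [], [], [], [], [], []],
  [[], [], [], [], [], [], [], [], [], [], [], [], [], [], []]]

/-- commutators of the letters in the generators -/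
def serTop : List (List (List ℕ)) := serTop0

/-- commutators of the generators with the letters, one term lower -/
def serStep0 : List (List (List ℕ)) := [
  [[5, 4, 8, 9, 10], [6, 8, 10, 11], [6, 4, 3, 7], [6, 8, 10], [7, 9, 10], [], [7, 9, 10], [7, 10], [10], [9, 10, 11], [10, 11], [], [], [], []],
  [[6, 5, 7], [3, 3, 6, 5], [3, 4, 6, 5, 7, 8], [6, 5], [], [7, 9, 10], [], [9, 11], [9, 10], [9, 10], [10, 11], [], [], [], []],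
  [[5, 8], [3, 10], [3, 4, 5, 6, 8], [], [6, 5], [6, 8, 10, 11], [7, 8], [3, 3], [9], [9, 10, 11], [10, 11], [11], [], [], []],
  [[5, 6, 7, 8, 10], [], [5, 7, 8, 9], [7, 10, 11], [9, 11], [7, 10], [9, 11], [], [11], [], [11], [], [], [], []],
  [[7, 8], [7, 8], [5, 7, 10], [7, 8], [], [7, 9, 10], [], [9, 11], [10], [11], [], [], [], [], []],
  [[7, 8, 9, 10], [7, 9, 11], [], [9, 10, 11], [9, 10], [9, 10, 11], [11], [], [11], [], [], [], [], [], []],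
  [[7, 8], [7, 10, 11], [8, 9], [9], [9, 10], [10], [10], [11], [], [11], [], [], [], [], []],
  [[], [], [], [], [], [], [], [], [], [], [], [], [], [], []],
  [[10], [9, 10], [], [10, 11], [10, 11], [10, 11], [], [11], [], [], [], [], [], [], []],
  [[10], [11], [11], [11], [], [], [], [], [], [], [], [], [], [], []],
  [[], [], [11], [], [], [], [], [], [], [], [], [], [], [], []],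
  [[], [], [], [], [], [], [], [], [], [], [], [], [], [], []]]

/-- commutators of the generators with the letters, one term lower -/
def serStep : List (List (List ℕ)) := serStep0

/-- the letters of an iterated commutator -/
def nestLetters : List ℕ := [0, 1, 2, 0, 2, 1, 0, 2]

/-- the values of the iterated commutator -/
def nestWords0 : List (List ℕ) := [
  [0],
  [4, 6, 7, 9, 10, 13, 14],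
  [6, 7, 8, 9, 14],
  [8, 9, 11],
  [10, 11, 13, 14],
  [11, 12, 13, 14],
  [12],
  [13, 14]]

/-- the values of the iterated commutator -/
def nestWords : List (List ℕ) := nestWords0

/-- involutions, with the position of a conjugate and the conjugating letter -/
def classTab0 : List (List ℕ × ℕ × ℕ) := [
  ([4], 0, 99),
  ([4, 8, 9, 13], 0, 0),
  ([4, 8, 9, 12, 14], 0, 1),
  ([4, 6, 7, 8, 9, 10, 11, 14], 0, 2),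
  ([4, 8, 9], 0, 3),
  ([4, 11, 12, 13], 0, 5),
  ([4, 11, 13, 14], 0, 7),
  ([4, 11, 12], 0, 8),
  ([4, 12, 13, 14], 0, 10),
  ([4, 6, 7, 13, 14], 1, 2),
  ([4, 12, 14], 1, 3),
  ([4, 8, 9, 12, 13, 14], 1, 5),
  ([4, 8, 9, 11, 13], 1, 7),
  ([4, 8, 9, 11, 12, 14], 1, 8),
  ([4, 6, 7, 12, 13, 14], 2, 2),
  ([4, 13], 2, 3),
  ([4, 6, 7, 8, 9, 10, 12, 13, 14], 3, 0),
  ([4, 6, 7, 11, 13], 3, 1),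
  ([4, 6, 7, 8, 9, 10, 12, 14], 3, 4),
  ([4, 6, 7, 8, 9, 10, 13, 14], 3, 5),
  ([4, 6, 7, 8, 9, 10, 14], 3, 8),
  ([4, 6, 7, 8, 9, 10, 11, 12, 14], 3, 10),
  ([4, 11, 14], 4, 1),
  ([4, 6, 7, 14], 4, 2),
  ([4, 8, 9, 11], 4, 7),
  ([4, 8, 9, 11, 12, 13, 14], 4, 8),
  ([4, 6, 7, 11], 9, 4),
  ([4, 6, 7, 12, 14], 9, 5),
  ([4, 6, 7, 11, 12], 9, 9),
  ([4, 6, 7, 8, 9, 10, 11, 12, 13, 14], 10, 2),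
  ([4, 6, 7, 8, 9, 10, 11, 13, 14], 15, 2),
  ([4, 6, 7, 11, 12, 13], 17, 10),
  ([9], 0, 99),
  ([9, 10, 11, 12, 13], 32, 0),
  ([9, 11, 14], 32, 1),
  ([9, 11, 12, 13, 14], 32, 3),
  ([9, 11, 12], 32, 4),
  ([9, 13, 14], 32, 6),
  ([9, 10, 11], 33, 1),
  ([9, 10, 12, 14], 33, 3),
  ([9, 10, 12, 13], 33, 5),
  ([9, 10, 11, 12, 14], 33, 6),
  ([9, 10, 13, 14], 34, 0),
  ([9, 11, 13], 34, 2),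
  ([9, 12, 14], 34, 3),
  ([9, 12, 13], 34, 5),
  ([9, 10, 11, 13, 14], 38, 2),
  ([9, 10], 38, 5),
  ([10], 0, 99),
  ([10, 12], 48, 0),
  ([10, 11, 12], 48, 1),
  ([10, 12, 13, 14], 48, 3),
  ([10, 13, 14], 48, 7),
  ([10, 11], 49, 1),
  ([10, 11, 13, 14], 50, 4),
  ([10, 11, 12, 13, 14], 50, 7),
  ([11], 0, 99),
  ([11, 12], 56, 0),
  ([11, 13, 14], 56, 1),
  ([11, 12, 13, 14], 57, 1),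
  ([12], 0, 99),
  ([12, 13, 14], 60, 2),
  ([13], 0, 99),
  ([14], 0, 99),
  ([2, 7], 0, 99),
  ([2, 3, 4, 6, 8, 9], 64, 0),
  ([2, 4, 5, 6, 7, 8, 11], 64, 1),
  ([2, 7, 9, 10, 11, 13], 64, 2),
  ([2, 6, 8, 9, 10, 12], 64, 3),
  ([2, 6, 8, 9, 10, 11, 13, 14], 64, 4),
  ([2, 6, 8, 11, 13], 64, 5),
  ([2, 7, 9, 11, 12, 14], 64, 6),
  ([2, 7, 9, 10, 11, 14], 64, 7),
  ([2, 7, 10, 11], 64, 8),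
  ([2, 7, 13, 14], 64, 10),
  ([2, 7, 9, 10, 12, 14], 65, 0),
  ([2, 3, 5, 7, 8, 9, 10, 11, 13], 65, 1),
  ([2, 3, 4, 6, 8, 10, 11, 12], 65, 2),
  ([2, 3, 4, 7, 8, 9, 10], 65, 3),
  ([2, 3, 4, 7, 8, 9, 12], 65, 4),
  ([2, 3, 4, 7, 8, 9, 11, 12, 13, 14], 65, 5),
  ([2, 3, 4, 6, 8, 10, 12, 13, 14], 65, 6),
  ([2, 3, 4, 6, 8, 9, 10, 11], 65, 8),
  ([2, 3, 4, 6, 8, 9, 13, 14], 65, 9),
  ([2, 3, 5, 6, 8, 9, 10, 11, 12], 66, 0),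
  ([2, 7, 9, 14], 66, 1),
  ([2, 4, 5, 6, 7, 8, 9, 10, 11], 66, 2),
  ([2, 4, 5, 10, 11, 13, 14], 66, 3),
  ([2, 4, 5, 9, 10], 66, 4),
  ([2, 4, 5, 12], 66, 5),
  ([2, 4, 5, 6, 7, 8, 9, 11, 12], 66, 6),
  ([2, 4, 5, 6, 7, 8, 9, 10, 12, 13, 14], 66, 7),
  ([2, 4, 5, 6, 7, 8, 10, 11, 12], 66, 8),
  ([2, 4, 5, 6, 7, 8, 11, 13, 14], 66, 9),
  ([2, 3, 4, 6, 8, 12], 67, 0),
  ([2, 4, 5, 6, 7, 8, 9, 10, 12], 67, 1),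
  ([2, 6, 8, 12, 14], 67, 3),
  ([2, 6, 8, 9, 10, 11], 67, 5),
  ([2, 7, 10, 12], 67, 6),
  ([2, 3, 4, 7, 8, 9, 10, 13, 14], 68, 0)]

/-- involutions, with the position of a conjugate and the conjugating letter -/
def classTab1 : List (List ℕ × ℕ × ℕ) := [
  ([2, 4, 5, 9, 11, 12, 13, 14], 68, 1),
  ([2, 7, 10, 11, 13, 14], 68, 3),
  ([2, 7, 11, 12, 13, 14], 68, 4),
  ([2, 6, 8, 10, 12, 14], 68, 6),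
  ([2, 6, 8, 9, 11, 13, 14], 68, 8),
  ([2, 6, 8, 9, 10, 12, 13, 14], 68, 11),
  ([2, 3, 4, 7, 8, 9, 10, 11], 69, 0),
  ([2, 4, 5, 9, 13, 14], 69, 1),
  ([2, 7, 10, 12, 13, 14], 69, 3),
  ([2, 6, 8, 10, 11, 13], 69, 6),
  ([2, 6, 8, 9, 12], 69, 8),
  ([2, 3, 4, 7, 8, 10, 13, 14], 70, 0),
  ([2, 4, 5, 10, 12, 13, 14], 70, 1),
  ([2, 7, 9, 11, 12, 13], 70, 3),
  ([2, 6, 8, 9, 11], 70, 6),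
  ([2, 6, 8, 10, 12, 13], 70, 8),
  ([2, 6, 8, 11, 14], 70, 11),
  ([2, 4, 5, 6, 7, 8, 9, 11, 12, 13, 14], 71, 1),
  ([2, 7, 9, 10, 12, 13], 71, 8),
  ([2, 3, 4, 6, 8, 12, 13, 14], 72, 0),
  ([2, 6, 8, 12, 13], 72, 3),
  ([2, 7, 9, 13], 72, 8),
  ([2, 4, 5, 6, 7, 8, 10, 11, 12, 13, 14], 73, 1),
  ([2, 3, 4, 6, 8, 11, 12, 13, 14], 75, 0),
  ([2, 7, 11, 12], 75, 2),
  ([2, 4, 5, 10, 12], 76, 0),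
  ([2, 3, 5, 7, 8, 9, 11, 12, 14], 76, 2),
  ([2, 3, 5, 6, 8, 11, 12, 13], 76, 3),
  ([2, 3, 5, 6, 8, 9, 10, 12], 76, 4),
  ([2, 3, 5, 7, 8, 11, 13, 14], 76, 6),
  ([2, 3, 5, 7, 8], 76, 7),
  ([2, 3, 5, 7, 8, 9, 11, 12, 13], 76, 8),
  ([2, 3, 5, 7, 8, 9, 10, 11, 14], 76, 9),
  ([2, 3, 4, 7, 8, 12, 13, 14], 77, 3),
  ([2, 3, 4, 7, 8, 10, 11, 13, 14], 77, 5),
  ([2, 3, 4, 6, 8, 9, 11], 77, 6),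
  ([2, 3, 4, 6, 8, 10, 11, 12, 13, 14], 77, 9),
  ([2, 3, 5, 6, 8, 9, 10, 11, 12, 13, 14], 78, 1),
  ([2, 3, 4, 7, 8, 10], 78, 2),
  ([2, 3, 4, 6, 8, 9, 10, 11, 13, 14], 78, 3),
  ([2, 3, 4, 6, 8, 9, 10, 13, 14], 78, 4),
  ([2, 3, 4, 7, 8, 11, 12], 78, 6),
  ([2, 3, 4, 7, 8, 12], 78, 7),
  ([2, 3, 4, 7, 8, 9, 11, 12], 78, 8),
  ([2, 6, 8, 10, 11, 14], 79, 0),
  ([2, 3, 5, 6, 8, 9, 12, 13, 14], 79, 1),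
  ([2, 3, 4, 7, 8, 10, 11], 79, 6),
  ([2, 3, 4, 7, 8, 9, 12, 13, 14], 79, 10),
  ([2, 3, 5, 6, 8, 9, 11, 12, 13, 14], 80, 1),
  ([2, 3, 4, 7, 8, 11, 12, 13, 14], 80, 2),
  ([2, 3, 4, 6, 8, 9, 11, 13, 14], 80, 4),
  ([2, 3, 5, 7, 8, 11], 81, 1),
  ([2, 3, 4, 6, 8, 11, 12], 81, 8),
  ([2, 3, 4, 6, 8, 10, 12], 81, 9),
  ([2, 3, 4, 7, 8, 9, 10, 11, 13, 14], 82, 4),
  ([2, 3, 5, 7, 8, 10, 12], 84, 3),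
  ([2, 3, 5, 7, 8, 9, 10, 13], 84, 4),
  ([2, 3, 5, 6, 8, 12, 13], 84, 6),
  ([2, 3, 5, 6, 8, 11, 12, 14], 84, 7),
  ([2, 3, 5, 6, 8, 9, 11, 12], 84, 8),
  ([2, 4, 5, 6, 7, 8, 9], 85, 1),
  ([2, 3, 5, 6, 8, 10, 12, 13], 86, 0),
  ([2, 4, 5, 11, 13, 14], 86, 4),
  ([2, 4, 5, 9, 10, 11, 12], 86, 5),
  ([2, 4, 5, 6, 7, 8, 12], 86, 7),
  ([2, 4, 5, 6, 7, 8, 9, 10, 11, 13, 14], 86, 9),
  ([2, 4, 5, 9, 11, 12], 87, 2),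
  ([2, 4, 5, 6, 7, 8, 10, 13, 14], 87, 5),
  ([2, 4, 5, 10, 11], 87, 9),
  ([2, 3, 5, 7, 8, 9, 12, 14], 88, 0),
  ([2, 4, 5, 12, 13, 14], 88, 7),
  ([2, 4, 5, 9, 10, 13, 14], 88, 9),
  ([2, 4, 5, 6, 7, 8, 12, 13, 14], 89, 3),
  ([2, 3, 5, 6, 8, 10, 11, 12, 14], 91, 0),
  ([2, 4, 5, 6, 7, 8, 10], 91, 6),
  ([2, 4, 5, 11], 92, 3),
  ([2, 3, 5, 7, 8, 10, 12, 13, 14], 94, 1),
  ([2, 3, 4, 6, 8, 9, 10], 94, 6),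
  ([2, 3, 5, 6, 8, 10, 11, 12, 13], 95, 0),
  ([2, 4, 5, 6, 7, 8, 9, 13, 14], 95, 8),
  ([2, 6, 8, 9, 12, 13, 14], 96, 6),
  ([2, 4, 5, 9], 97, 1),
  ([2, 4, 5, 9, 10, 11, 12, 13, 14], 104, 1),
  ([2, 3, 5, 6, 8, 10, 12, 14], 111, 1),
  ([2, 3, 5, 7, 8, 10, 11, 12], 112, 0),
  ([2, 3, 5, 6, 8, 12, 14], 117, 0),
  ([2, 3, 5, 7, 8, 10, 11, 12, 13, 14], 123, 1),
  ([2, 3, 5, 6, 8, 9, 12], 126, 4),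
  ([2, 3, 5, 7, 8, 13, 14], 127, 5),
  ([2, 3, 5, 6, 8, 9, 10, 12, 13, 14], 127, 6),
  ([2, 3, 5, 7, 8, 9, 10, 14], 128, 5),
  ([2, 3, 5, 7, 8, 9, 12, 13], 148, 4),
  ([4, 11], 0, 99),
  ([4, 8, 9, 11, 12, 13], 192, 0),
  ([4, 6, 7, 8, 9, 10, 13], 192, 2),
  ([4, 8, 9, 11, 13, 14], 192, 3),
  ([4, 12, 13], 192, 5),
  ([4, 13, 14], 192, 7),
  ([4, 12], 192, 8),
  ([4, 11, 12, 13, 14], 192, 10)]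

/-- involutions, with the position of a conjugate and the conjugating letter -/
def classTab2 : List (List ℕ × ℕ × ℕ) := [
  ([4, 6, 7, 11, 12, 13, 14], 193, 2),
  ([4, 11, 13], 193, 3),
  ([4, 8, 9, 11, 14], 193, 6),
  ([4, 8, 9, 12, 13], 193, 7),
  ([4, 8, 9, 14], 193, 8),
  ([4, 6, 7, 8, 9, 10, 11], 194, 0),
  ([4, 6, 7, 13], 194, 1),
  ([4, 6, 7, 8, 9, 10, 11, 12, 13], 194, 4),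
  ([4, 6, 7, 8, 9, 10, 11, 13], 194, 8),
  ([4, 6, 7, 8, 9, 10, 12, 13], 194, 10),
  ([4, 14], 195, 0),
  ([4, 6, 7, 11, 14], 195, 2),
  ([4, 8, 9, 11, 12], 195, 6),
  ([4, 8, 9, 13, 14], 195, 7),
  ([4, 8, 9, 12], 195, 8),
  ([4, 6, 7, 8, 9, 10, 11, 12], 196, 2),
  ([4, 11, 12, 14], 196, 7),
  ([4, 6, 7, 12], 200, 4),
  ([4, 6, 7], 200, 9),
  ([4, 6, 7, 11, 13, 14], 200, 10),
  ([4, 6, 7, 8, 9, 10], 201, 2),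
  ([4, 6, 7, 8, 9, 10, 12], 205, 4),
  ([4, 6, 7, 11, 12, 14], 206, 9),
  ([4, 6, 7, 12, 13], 206, 10),
  ([8, 9], 0, 99),
  ([8, 9, 11, 12], 224, 0),
  ([8, 9, 10, 11], 224, 2),
  ([8, 9, 12, 13, 14], 224, 3),
  ([8, 9, 11, 13, 14], 224, 5),
  ([8, 9, 13, 14], 224, 7),
  ([8, 9, 12], 225, 0),
  ([8, 9, 10, 12], 225, 2),
  ([8, 9, 11], 225, 3),
  ([8, 9, 11, 12, 13, 14], 225, 7),
  ([8, 9, 10, 11, 13, 14], 226, 1),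
  ([8, 9, 10, 11, 12, 13, 14], 226, 4),
  ([8, 9, 10, 11, 12], 227, 2),
  ([8, 9, 10], 228, 2),
  ([8, 9, 10, 13, 14], 231, 4),
  ([8, 9, 10, 12, 13, 14], 231, 8),
  ([9, 11], 0, 99),
  ([9, 10, 13], 240, 0),
  ([9, 13], 240, 1),
  ([9, 11, 13, 14], 240, 2),
  ([9, 12], 240, 3),
  ([9, 12, 13, 14], 240, 5),
  ([9, 10, 12, 13, 14], 241, 1),
  ([9, 10, 11, 13], 241, 3),
  ([9, 10, 11, 14], 241, 4),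
  ([9, 10, 14], 241, 6),
  ([9, 10, 11, 12], 242, 0),
  ([9, 11, 12, 14], 242, 3),
  ([9, 11, 12, 13], 242, 4),
  ([9, 14], 242, 6),
  ([9, 10, 12], 246, 2),
  ([9, 10, 11, 12, 13, 14], 246, 3),
  ([10, 13], 0, 99),
  ([10, 12, 13], 256, 0),
  ([10, 11, 12, 13], 256, 1),
  ([10, 12, 14], 256, 3),
  ([10, 14], 256, 7),
  ([10, 11, 13], 257, 1),
  ([10, 11, 14], 258, 4),
  ([10, 11, 12, 14], 258, 7),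
  ([11, 13], 0, 99),
  ([11, 12, 13], 264, 0),
  ([11, 14], 264, 1),
  ([11, 12, 14], 265, 1),
  ([12, 13], 0, 99),
  ([12, 14], 268, 2),
  ([13, 14], 0, 99),
  ([0, 5, 7], 0, 99),
  ([0, 5, 6, 7, 8, 11, 13], 271, 0),
  ([0, 4, 5, 6, 8, 9, 14], 271, 1),
  ([0, 3, 4, 5, 7, 8, 9, 11], 271, 2),
  ([0, 5, 7, 8, 9, 11, 14], 271, 3),
  ([0, 5, 7, 8, 9, 11, 12, 13, 14], 271, 4),
  ([0, 5, 6, 7, 9, 10, 11, 13], 271, 5),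
  ([0, 5, 7, 10, 13, 14], 271, 6),
  ([0, 5, 7, 8, 9, 10, 11, 12, 13, 14], 271, 7),
  ([0, 5, 7, 10, 14], 271, 8),
  ([0, 5, 7, 10, 12, 14], 271, 9),
  ([0, 5, 7, 12], 271, 11),
  ([0, 5, 7, 13], 272, 0),
  ([0, 4, 5, 9, 10, 12, 14], 272, 1),
  ([0, 3, 4, 5, 6, 7, 10, 11], 272, 2),
  ([0, 5, 6, 7, 9, 10, 11, 12, 13], 272, 3),
  ([0, 5, 6, 7, 9, 11, 12, 13], 272, 4),
  ([0, 5, 6, 7, 8, 10, 11, 12, 14], 272, 6),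
  ([0, 5, 6, 7, 8, 10, 11, 12, 13, 14], 272, 8),
  ([0, 5, 6, 7, 8, 11, 12, 13], 272, 11),
  ([0, 4, 5, 9, 11, 12], 273, 0),
  ([0, 5, 7, 8, 9, 10, 11, 13, 14], 273, 1),
  ([0, 3, 5, 7, 8, 9, 10, 12, 14], 273, 2),
  ([0, 4, 5, 6, 8, 9, 10, 11], 273, 3),
  ([0, 4, 5, 6, 14], 273, 4),
  ([0, 4, 5, 8, 10, 11, 13, 14], 273, 5),
  ([0, 4, 5, 6, 8, 9, 10, 11, 13], 273, 6),
  ([0, 4, 5, 6, 10, 11, 12, 14], 273, 7),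
  ([0, 4, 5, 6, 8, 9, 10, 11, 12], 273, 8)]

/-- involutions, with the position of a conjugate and the conjugating letter -/
def classTab3 : List (List ℕ × ℕ × ℕ) := [
  ([0, 4, 5, 6, 8, 9, 12, 14], 273, 10),
  ([0, 3, 4, 5, 6, 7, 8, 9, 10, 12], 274, 0),
  ([0, 3, 5, 6, 7, 10, 14], 274, 1),
  ([0, 3, 4, 5, 7, 8, 9, 11, 12, 14], 274, 3),
  ([0, 3, 4, 5, 6, 7, 10, 11, 13], 274, 5),
  ([0, 3, 4, 5, 7, 10, 11, 12, 14], 274, 7),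
  ([0, 3, 4, 5, 7, 8, 9, 10, 11, 12, 13], 274, 8),
  ([0, 3, 4, 5, 7, 8, 9, 11, 12, 13, 14], 274, 11),
  ([0, 5, 6, 7, 9, 11], 275, 0),
  ([0, 4, 5, 6, 12, 13, 14], 275, 1),
  ([0, 3, 4, 5, 7, 10, 11, 13], 275, 2),
  ([0, 5, 7, 12, 13], 275, 4),
  ([0, 5, 6, 7, 8, 10, 11, 13, 14], 275, 5),
  ([0, 5, 7, 8, 9, 10, 11, 12, 14], 275, 6),
  ([0, 5, 7, 8, 9, 11, 12, 14], 275, 11),
  ([0, 3, 4, 5, 7, 10, 11, 12, 13, 14], 276, 2),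
  ([0, 5, 7, 8, 9, 10, 11, 14], 276, 9),
  ([0, 5, 7, 8, 9, 11, 13, 14], 276, 11),
  ([0, 4, 5, 8, 12, 14], 277, 1),
  ([0, 3, 4, 5, 6, 7, 8, 9, 10, 13, 14], 277, 2),
  ([0, 5, 6, 7, 8, 10, 11, 14], 277, 4),
  ([0, 5, 6, 7, 9, 11, 13], 277, 6),
  ([0, 5, 6, 7, 9, 11, 12], 277, 8),
  ([0, 4, 5, 6, 8, 9, 10, 11, 12, 13], 278, 1),
  ([0, 3, 4, 5, 7, 8, 9, 10, 11, 13, 14], 278, 2),
  ([0, 5, 7, 10, 12, 13, 14], 278, 11),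
  ([0, 3, 4, 5, 7, 11, 12, 13, 14], 279, 2),
  ([0, 3, 4, 5, 7, 8, 9, 10, 11, 14], 280, 2),
  ([0, 5, 6, 7, 8, 11], 283, 0),
  ([0, 4, 5, 6, 8, 9, 13, 14], 283, 1),
  ([0, 3, 4, 5, 7, 8, 9, 11, 13], 283, 2),
  ([0, 5, 6, 7, 9, 10, 11], 283, 5),
  ([0, 4, 5, 9, 10, 14], 284, 3),
  ([0, 4, 5, 8, 10, 11, 14], 284, 4),
  ([0, 4, 5, 9, 11, 13], 284, 6),
  ([0, 4, 5, 9, 11], 284, 9),
  ([0, 3, 5, 7, 8, 9, 10, 13], 285, 1),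
  ([0, 3, 4, 5, 6, 7, 11, 12], 285, 3),
  ([0, 3, 4, 5, 6, 7, 10, 11, 12, 13, 14], 285, 4),
  ([0, 3, 4, 5, 6, 7, 8, 9, 14], 285, 7),
  ([0, 3, 4, 5, 6, 7, 11, 14], 285, 8),
  ([0, 3, 4, 5, 6, 7, 11, 12, 13], 285, 9),
  ([0, 4, 5, 8, 14], 286, 1),
  ([0, 4, 5, 8, 10, 11, 12, 14], 287, 1),
  ([0, 3, 4, 5, 6, 7, 8, 9, 12], 287, 2),
  ([0, 4, 5, 9, 11, 12, 13], 288, 1),
  ([0, 5, 6, 7, 9, 10, 11, 12], 289, 4),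
  ([0, 4, 5, 6, 8, 9, 12, 13, 14], 291, 0),
  ([0, 3, 5, 6, 7, 11, 13, 14], 291, 2),
  ([0, 4, 5, 8, 12, 13, 14], 291, 4),
  ([0, 4, 5, 6, 10, 11, 14], 291, 5),
  ([0, 4, 5, 9, 10, 13, 14], 291, 6),
  ([0, 4, 5, 8, 10, 11, 12, 13, 14], 291, 7),
  ([0, 3, 4, 5, 7, 11], 292, 2),
  ([0, 3, 5, 6, 7, 11, 12], 293, 0),
  ([0, 3, 5, 7, 10, 12], 293, 3),
  ([0, 3, 5, 6, 7, 11, 14], 293, 5),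
  ([0, 3, 5, 7, 8, 9, 10], 293, 6),
  ([0, 3, 5, 7, 11, 12, 13, 14], 293, 7),
  ([0, 3, 5, 7, 8, 9, 11], 293, 8),
  ([0, 3, 5, 7, 8, 9, 11, 12, 13, 14], 294, 2),
  ([0, 4, 5, 6, 10, 11, 12, 13, 14], 294, 4),
  ([0, 4, 5, 8, 13, 14], 295, 0),
  ([0, 3, 5, 7, 11, 12, 14], 295, 2),
  ([0, 4, 5, 6, 12, 14], 295, 10),
  ([0, 4, 5, 6, 10, 11, 13, 14], 296, 0),
  ([0, 3, 5, 6, 7, 8, 9, 12], 296, 2),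
  ([0, 4, 5, 9, 10, 12, 13, 14], 296, 4),
  ([0, 3, 5, 7, 8, 9, 11, 12, 14], 297, 2),
  ([0, 3, 5, 7, 10, 14], 298, 2),
  ([0, 4, 5, 6, 13, 14], 298, 8),
  ([0, 3, 4, 5, 7, 11, 12, 14], 301, 5),
  ([0, 3, 4, 5, 6, 7, 8, 9, 10, 14], 301, 6),
  ([0, 3, 4, 5, 6, 7, 8, 9, 12, 13], 301, 8),
  ([0, 3, 5, 6, 7, 8, 9, 14], 302, 3),
  ([0, 3, 5, 6, 7, 10, 12, 13], 302, 4),
  ([0, 3, 5, 7, 8, 9, 11, 13], 302, 5),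
  ([0, 3, 5, 6, 7, 10, 13, 14], 302, 6),
  ([0, 3, 5, 6, 7, 10, 12], 303, 1),
  ([0, 3, 4, 5, 7, 10, 11], 303, 7),
  ([0, 3, 4, 5, 6, 7, 10, 11, 12, 14], 304, 4),
  ([0, 3, 4, 5, 6, 7, 8, 9, 13, 14], 304, 7),
  ([0, 3, 4, 5, 6, 7, 11, 13, 14], 304, 8),
  ([0, 3, 4, 5, 7, 8, 9, 10, 11, 12], 306, 3),
  ([0, 5, 6, 7, 8, 11, 12], 308, 4),
  ([0, 3, 5, 7, 11], 309, 2),
  ([0, 3, 5, 6, 7, 8, 9, 13, 14], 310, 1),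
  ([0, 3, 5, 6, 7, 8, 9, 12, 13], 315, 1),
  ([0, 3, 4, 5, 7, 11, 13], 315, 8),
  ([0, 3, 5, 6, 7, 8, 9, 10, 11, 13], 318, 2),
  ([0, 3, 5, 7, 10, 12, 13], 319, 1),
  ([0, 3, 4, 5, 6, 7, 8, 9, 10, 12, 13], 319, 6),
  ([0, 3, 5, 6, 7, 11, 12, 13], 324, 1),
  ([0, 3, 5, 7, 8, 9, 10, 12, 13, 14], 329, 2),
  ([0, 3, 5, 7, 10, 13, 14], 336, 3),
  ([0, 3, 5, 6, 7, 8, 9, 10, 11, 12, 14], 342, 2),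
  ([0, 3, 5, 6, 7, 8, 9, 10, 11, 12, 13, 14], 348, 3),
  ([0, 3, 5, 6, 7, 8, 9, 10, 11], 349, 2),
  ([0, 3, 5, 7, 11, 13], 355, 8),
  ([2, 7, 9], 0, 99)]

/-- involutions, with the position of a conjugate and the conjugating letter -/
def classTab4 : List (List ℕ × ℕ × ℕ) := [
  ([2, 3, 4, 6, 8, 10, 11, 12, 13], 399, 0),
  ([2, 4, 5, 6, 7, 8, 9, 14], 399, 1),
  ([2, 7, 10, 11, 13], 399, 2),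
  ([2, 6, 8, 10, 11, 13, 14], 399, 3),
  ([2, 6, 8, 10, 12, 13, 14], 399, 4),
  ([2, 6, 8, 9, 12, 14], 399, 5),
  ([2, 7, 11, 12, 13], 399, 6),
  ([2, 7, 10, 11, 14], 399, 7),
  ([2, 7, 9, 10, 11, 13, 14], 399, 8),
  ([2, 7, 9, 13, 14], 399, 10),
  ([2, 7, 10, 12, 14], 400, 0),
  ([2, 3, 5, 7, 8, 13], 400, 1),
  ([2, 3, 4, 6, 8, 9, 13], 400, 2),
  ([2, 3, 4, 7, 8, 12, 14], 400, 3),
  ([2, 3, 4, 7, 8, 10, 14], 400, 4),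
  ([2, 3, 4, 7, 8, 10, 11, 14], 400, 5),
  ([2, 3, 4, 6, 8, 9, 11, 13], 400, 6),
  ([2, 3, 4, 6, 8, 9, 14], 400, 7),
  ([2, 3, 4, 6, 8, 12, 14], 400, 8),
  ([2, 3, 4, 6, 8, 10, 11, 12, 14], 400, 9),
  ([2, 3, 5, 6, 8, 11, 12, 13, 14], 401, 0),
  ([2, 7, 13], 401, 1),
  ([2, 4, 5, 6, 7, 8, 10, 13], 401, 2),
  ([2, 4, 5, 9, 10, 11, 12, 13], 401, 3),
  ([2, 4, 5, 10, 12, 14], 401, 4),
  ([2, 4, 5, 9, 13], 401, 5),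
  ([2, 4, 5, 6, 7, 8, 12, 13], 401, 6),
  ([2, 4, 5, 6, 7, 8, 10, 11, 12, 13], 401, 7),
  ([2, 4, 5, 6, 7, 8, 9, 10, 12, 13], 401, 8),
  ([2, 4, 5, 6, 7, 8, 9, 13], 401, 9),
  ([2, 3, 4, 6, 8, 9, 10, 11, 13], 402, 0),
  ([2, 4, 5, 6, 7, 8, 10, 11, 12, 14], 402, 1),
  ([2, 6, 8, 9, 11, 13], 402, 3),
  ([2, 6, 8, 9, 12, 13], 402, 4),
  ([2, 7, 9, 10, 12, 13, 14], 402, 6),
  ([2, 3, 4, 7, 8, 12, 13], 403, 0),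
  ([2, 4, 5, 11, 13], 403, 1),
  ([2, 7, 9, 10, 11], 403, 3),
  ([2, 7, 9, 11, 12], 403, 4),
  ([2, 6, 8, 9, 10, 11, 14], 403, 6),
  ([2, 6, 8, 12, 13, 14], 403, 8),
  ([2, 6, 8, 10, 11], 403, 11),
  ([2, 3, 4, 7, 8, 11, 12, 13], 404, 0),
  ([2, 4, 5, 12, 14], 404, 1),
  ([2, 6, 8, 9, 11, 14], 404, 2),
  ([2, 6, 8, 9, 10, 12, 14], 404, 6),
  ([2, 6, 8, 11, 13, 14], 404, 8),
  ([2, 6, 8, 10, 12], 404, 11),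
  ([2, 3, 4, 7, 8, 9, 12, 13], 405, 0),
  ([2, 4, 5, 9, 10, 13], 405, 1),
  ([2, 7, 11, 12, 14], 405, 3),
  ([2, 6, 8, 12], 405, 6),
  ([2, 6, 8, 9, 10, 11, 13], 405, 8),
  ([2, 4, 5, 6, 7, 8, 12, 14], 406, 1),
  ([2, 7, 9, 10, 12], 406, 2),
  ([2, 7, 10, 12, 13], 406, 8),
  ([2, 3, 4, 6, 8, 9, 10, 11, 14], 407, 0),
  ([2, 7, 14], 407, 8),
  ([2, 4, 5, 6, 7, 8, 9, 10, 12, 14], 408, 1),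
  ([2, 3, 4, 6, 8, 9, 10, 14], 410, 0),
  ([2, 4, 5, 6, 7, 8, 10, 14], 410, 1),
  ([2, 7, 9, 11, 12, 13, 14], 410, 7),
  ([2, 3, 5, 7, 8, 10, 12, 13], 411, 2),
  ([2, 3, 5, 6, 8, 9, 10, 11, 12, 14], 411, 3),
  ([2, 3, 5, 6, 8, 12, 13, 14], 411, 4),
  ([2, 3, 5, 6, 8, 11, 12], 411, 5),
  ([2, 3, 5, 7, 8, 9, 10], 411, 6),
  ([2, 3, 5, 7, 8, 9, 10, 11, 13, 14], 411, 7),
  ([2, 3, 5, 7, 8, 10, 12, 14], 411, 8),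
  ([2, 3, 5, 7, 8, 14], 411, 9),
  ([2, 3, 5, 7, 8, 9, 10, 11], 412, 1),
  ([2, 3, 4, 7, 8, 9, 10, 13], 412, 3),
  ([2, 3, 4, 7, 8, 9, 11, 12, 14], 412, 5),
  ([2, 3, 4, 6, 8, 10, 12, 14], 412, 6),
  ([2, 3, 4, 6, 8, 12, 13], 413, 3),
  ([2, 3, 4, 6, 8, 11, 12, 14], 413, 4),
  ([2, 3, 4, 7, 8, 9, 10, 11, 13], 413, 6),
  ([2, 3, 4, 7, 8, 10, 11, 13], 413, 8),
  ([2, 6, 8, 9, 10, 12, 13], 414, 0),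
  ([2, 3, 5, 6, 8, 10, 12, 13, 14], 414, 1),
  ([2, 3, 4, 7, 8, 9, 10, 14], 414, 2),
  ([2, 3, 4, 7, 8, 9, 11, 12, 13], 414, 6),
  ([2, 3, 4, 7, 8, 9, 12, 14], 414, 7),
  ([2, 3, 4, 7, 8, 10, 13], 414, 10),
  ([2, 3, 5, 6, 8, 10, 11, 12], 415, 1),
  ([2, 3, 4, 6, 8, 10, 12, 13], 415, 4),
  ([2, 3, 5, 7, 8, 9, 10, 13, 14], 416, 1),
  ([2, 3, 4, 7, 8, 9, 10, 11, 14], 416, 3),
  ([2, 3, 4, 6, 8, 9, 10, 13], 416, 8),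
  ([2, 3, 4, 6, 8, 9, 11, 14], 416, 9),
  ([2, 3, 4, 7, 8, 11, 12, 14], 418, 4),
  ([2, 3, 5, 7, 8, 9, 11, 12, 13, 14], 420, 3),
  ([2, 3, 5, 7, 8, 11, 13], 420, 4),
  ([2, 3, 5, 6, 8, 9, 10, 12, 13], 420, 6),
  ([2, 4, 5, 6, 7, 8, 11, 13], 421, 1),
  ([2, 6, 8, 11], 421, 5),
  ([2, 3, 5, 6, 8, 9, 12, 13], 422, 0),
  ([2, 4, 5, 9, 11, 12, 14], 422, 4),
  ([2, 4, 5, 10, 11, 14], 422, 5),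
  ([2, 4, 5, 6, 7, 8, 9, 11, 12, 13], 422, 7)]

/-- involutions, with the position of a conjugate and the conjugating letter -/
def classTab5 : List (List ℕ × ℕ × ℕ) := [
  ([2, 4, 5, 6, 7, 8, 9, 10, 11, 14], 423, 5),
  ([2, 4, 5, 10, 12, 13], 423, 6),
  ([2, 4, 5, 11, 14], 423, 7),
  ([2, 4, 5, 9, 10, 11, 12, 14], 423, 9),
  ([2, 3, 5, 7, 8, 10, 11, 12, 13], 424, 0),
  ([2, 4, 5, 9, 10, 14], 425, 8),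
  ([2, 4, 5, 9, 14], 425, 9),
  ([2, 3, 5, 6, 8, 9, 11, 12, 13], 427, 0),
  ([2, 4, 5, 6, 7, 8, 9, 11, 12, 14], 427, 2),
  ([2, 4, 5, 6, 7, 8, 9, 10, 11, 13], 427, 6),
  ([2, 4, 5, 9, 11, 12, 13], 428, 3),
  ([2, 3, 5, 6, 8, 9, 11, 12, 14], 431, 0),
  ([2, 4, 5, 6, 7, 8, 11, 14], 431, 8),
  ([2, 3, 4, 6, 8, 11, 12, 13], 435, 4),
  ([2, 4, 5, 10, 11, 13], 436, 8),
  ([2, 4, 5, 12, 13], 443, 9),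
  ([2, 3, 5, 6, 8, 9, 12, 14], 448, 1),
  ([2, 3, 5, 7, 8, 9, 12, 13, 14], 449, 0),
  ([2, 3, 5, 6, 8, 9, 10, 12, 14], 453, 0),
  ([2, 3, 5, 7, 8, 9, 11, 12], 456, 1),
  ([2, 3, 5, 6, 8, 10, 11, 12, 13, 14], 458, 0),
  ([2, 3, 5, 6, 8, 10, 12], 462, 4),
  ([2, 3, 5, 7, 8, 9, 12], 462, 6),
  ([2, 3, 5, 6, 8, 9, 10, 11, 12, 13], 463, 12),
  ([2, 3, 5, 6, 8, 12], 464, 12),
  ([2, 3, 5, 7, 8, 11, 14], 465, 4),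
  ([2, 3, 5, 7, 8, 10, 11, 12, 14], 475, 1),
  ([3, 4, 6], 0, 99),
  ([3, 4, 6, 8, 11, 12], 527, 0),
  ([3, 4, 6, 7, 8, 9, 10, 12], 527, 1),
  ([3, 4, 6, 9, 12, 13, 14], 527, 2),
  ([3, 4, 6, 8, 9, 10, 12, 14], 527, 3),
  ([3, 4, 6, 8, 9, 12, 13, 14], 527, 4),
  ([3, 4, 6, 8, 10, 11], 527, 5),
  ([3, 4, 6, 10, 12, 14], 527, 6),
  ([3, 4, 6, 12, 14], 527, 7),
  ([3, 4, 6, 13, 14], 527, 11),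
  ([3, 4, 6, 7, 9, 10, 11, 12, 13], 528, 1),
  ([3, 4, 6, 8, 9, 10], 528, 2),
  ([3, 4, 6, 9, 10, 13], 528, 3),
  ([3, 4, 6, 10, 13, 14], 528, 5),
  ([3, 4, 6, 8, 10, 11, 12, 14], 528, 6),
  ([3, 4, 6, 8, 11, 13], 528, 7),
  ([3, 4, 6, 8, 11, 12, 13, 14], 528, 9),
  ([3, 4, 6, 7, 8, 12, 13], 529, 0),
  ([3, 4, 6, 7, 8, 9, 10, 13], 529, 2),
  ([3, 4, 6, 7, 12], 529, 3),
  ([3, 4, 6, 7, 10, 11, 12], 529, 4),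
  ([3, 4, 6, 7, 9, 12, 14], 529, 5),
  ([3, 4, 6, 7, 8, 9, 11, 12, 13], 529, 6),
  ([3, 4, 6, 7, 8, 9, 10, 14], 529, 7),
  ([3, 4, 6, 7, 8, 9, 10, 12, 13, 14], 529, 9),
  ([3, 4, 6, 7, 8, 10, 11, 13], 530, 1),
  ([3, 4, 6, 9, 10, 14], 530, 6),
  ([3, 4, 6, 9, 13], 530, 7),
  ([3, 4, 6, 9, 12], 530, 8),
  ([3, 4, 6, 7, 14], 531, 1),
  ([3, 4, 6, 8, 9, 10, 12, 13], 531, 8),
  ([3, 4, 6, 7, 10, 11, 12, 13, 14], 532, 1),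
  ([3, 4, 6, 9, 10, 12, 13, 14], 532, 5),
  ([3, 4, 6, 8, 9, 14], 532, 7),
  ([3, 4, 6, 8, 9, 12], 532, 8),
  ([3, 4, 6, 7, 9, 12, 13], 533, 1),
  ([3, 4, 6, 9, 14], 533, 3),
  ([3, 4, 6, 9, 10, 12], 533, 4),
  ([3, 4, 6, 8, 11, 14], 533, 6),
  ([3, 4, 6, 8, 10, 11, 13, 14], 533, 9),
  ([3, 4, 6, 7, 8, 9, 11, 12, 14], 534, 1),
  ([3, 4, 6, 10, 12, 13], 534, 11),
  ([3, 4, 6, 8, 9, 13], 535, 4),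
  ([3, 4, 6, 10], 535, 6),
  ([3, 4, 6, 12, 13], 535, 11),
  ([3, 4, 6, 7, 10, 11, 14], 537, 0),
  ([3, 4, 6, 7, 9, 13, 14], 537, 2),
  ([3, 4, 6, 7, 8, 12, 14], 537, 3),
  ([3, 4, 6, 7, 8, 9, 11], 537, 5),
  ([3, 4, 6, 7, 9], 537, 6),
  ([3, 4, 6, 7, 9, 10, 11], 537, 7),
  ([3, 4, 6, 7, 9, 10, 11, 12, 14], 537, 10),
  ([3, 4, 6, 8, 9, 10, 13, 14], 538, 8),
  ([3, 4, 6, 7, 8, 13, 14], 539, 1),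
  ([3, 4, 6, 8, 10, 11, 12, 13], 539, 4),
  ([3, 4, 6, 7, 8, 9, 11, 13, 14], 540, 1),
  ([3, 4, 6, 7, 8], 544, 2),
  ([3, 4, 6, 7, 8, 10, 11, 12, 13, 14], 544, 6),
  ([3, 4, 6, 7, 13], 545, 3),
  ([3, 4, 6, 7, 10, 11, 13], 545, 4),
  ([3, 4, 6, 7, 12, 13, 14], 546, 8),
  ([3, 4, 6, 7, 9, 10, 11, 13, 14], 548, 2),
  ([3, 4, 6, 7, 8, 10, 11, 12], 549, 0),
  ([3, 4, 6, 7, 8, 10, 11, 14], 552, 8),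
  ([4, 5, 7], 0, 99),
  ([4, 5, 6, 7, 9, 12, 13, 14], 591, 0),
  ([4, 5, 7, 9, 10, 11, 13], 591, 1),
  ([4, 5, 7, 11, 12, 14], 591, 2),
  ([4, 5, 7, 9, 10, 11, 14], 591, 3),
  ([4, 5, 7, 12, 14], 591, 4),
  ([4, 5, 7, 11], 591, 5),
  ([4, 5, 7, 11, 13, 14], 591, 8),
  ([4, 5, 7, 13, 14], 591, 9)]

/-- involutions, with the position of a conjugate and the conjugating letter -/
def classTab6 : List (List ℕ × ℕ × ℕ) := [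
  ([4, 5, 7, 11, 12, 13], 592, 0),
  ([4, 5, 6, 7, 12, 13], 592, 1),
  ([4, 5, 6, 7, 11, 12], 592, 2),
  ([4, 5, 6, 7, 13, 14], 592, 3),
  ([4, 5, 6, 7, 9, 11, 12, 13], 592, 4),
  ([4, 5, 6, 7, 9, 14], 592, 6),
  ([4, 5, 6, 7, 9, 11, 13, 14], 592, 8),
  ([4, 5, 6, 7, 9, 12], 592, 10),
  ([4, 5, 7, 12, 13], 593, 1),
  ([4, 5, 7, 9, 10, 12], 593, 2),
  ([4, 5, 7, 9, 10, 11, 12], 593, 6),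
  ([4, 5, 7, 9, 10, 13], 593, 8),
  ([4, 5, 7, 9, 10, 12, 13, 14], 594, 3),
  ([4, 5, 6, 7], 595, 0),
  ([4, 5, 7, 9, 10, 11, 12, 13, 14], 595, 6),
  ([4, 5, 7, 9, 10, 14], 595, 8),
  ([4, 5, 6, 7, 9, 13], 596, 0),
  ([4, 5, 6, 7, 9, 11], 598, 0),
  ([4, 5, 6, 7, 9, 11, 12, 14], 600, 0),
  ([4, 5, 6, 7, 11, 14], 601, 8),
  ([4, 5, 6, 7, 12, 14], 601, 10),
  ([4, 5, 6, 7, 11, 13], 602, 5),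
  ([4, 5, 6, 7, 11, 12, 13, 14], 602, 10),
  ([8, 9, 13], 0, 99),
  ([8, 9, 11, 12, 13], 623, 0),
  ([8, 9, 10, 11, 13], 623, 2),
  ([8, 9, 12, 14], 623, 3),
  ([8, 9, 11, 14], 623, 5),
  ([8, 9, 14], 623, 7),
  ([8, 9, 12, 13], 624, 0),
  ([8, 9, 10, 12, 13], 624, 2),
  ([8, 9, 11, 13], 624, 3),
  ([8, 9, 11, 12, 14], 624, 7),
  ([8, 9, 10, 11, 14], 625, 1),
  ([8, 9, 10, 11, 12, 14], 625, 4),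
  ([8, 9, 10, 11, 12, 13], 626, 2),
  ([8, 9, 10, 13], 627, 2),
  ([8, 9, 10, 14], 630, 4),
  ([8, 9, 10, 12, 14], 630, 8),
  ([0, 4, 5, 6], 0, 99),
  ([0, 4, 5, 8, 13], 639, 0),
  ([0, 5, 7, 10, 12, 13], 639, 1),
  ([0, 3, 5, 7, 11, 12], 639, 2),
  ([0, 4, 5, 6, 10, 11, 12, 13], 639, 3),
  ([0, 4, 5, 6, 8, 9], 639, 4),
  ([0, 4, 5, 9, 10, 13], 639, 5),
  ([0, 4, 5, 6, 10, 11, 12], 639, 6),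
  ([0, 4, 5, 6, 8, 9, 10, 11, 12, 13, 14], 639, 7),
  ([0, 4, 5, 6, 12], 639, 10),
  ([0, 4, 5, 6, 13], 640, 0),
  ([0, 5, 6, 7, 8, 11, 12, 14], 640, 1),
  ([0, 3, 5, 6, 7, 8, 9, 10, 11, 12, 13], 640, 2),
  ([0, 4, 5, 8, 12, 13], 640, 3),
  ([0, 4, 5, 9, 11, 14], 640, 4),
  ([0, 4, 5, 8, 10, 11, 13], 640, 6),
  ([0, 4, 5, 8, 10, 11], 640, 8),
  ([0, 4, 5, 8, 10, 11, 12], 640, 9),
  ([0, 5, 6, 7, 8, 10, 11], 641, 0),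
  ([0, 4, 5, 6, 8, 9, 10, 11, 13, 14], 641, 1),
  ([0, 3, 4, 5, 7, 8, 9, 10, 11, 12, 14], 641, 2),
  ([0, 5, 7, 8, 9, 10, 11], 641, 3),
  ([0, 5, 7, 8, 9, 10, 11, 12, 13], 641, 4),
  ([0, 5, 6, 7, 9, 11, 13, 14], 641, 5),
  ([0, 5, 7, 12, 14], 641, 6),
  ([0, 5, 7, 8, 9, 11, 13], 641, 7),
  ([0, 5, 7, 12, 13, 14], 641, 8),
  ([0, 5, 7, 13, 14], 641, 9),
  ([0, 5, 7, 10, 13], 641, 11),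
  ([0, 3, 5, 6, 7, 8, 9, 10, 11, 14], 642, 0),
  ([0, 3, 4, 5, 6, 7, 10, 11, 13, 14], 642, 1),
  ([0, 3, 5, 7, 8, 9, 11, 12, 13], 642, 3),
  ([0, 3, 5, 6, 7, 8, 9, 10, 11, 12], 642, 5),
  ([0, 3, 5, 7, 11, 12, 13], 642, 6),
  ([0, 3, 5, 7, 8, 9, 10, 12, 13], 642, 7),
  ([0, 3, 5, 7, 10, 13], 642, 8),
  ([0, 3, 5, 7, 11, 13, 14], 642, 10),
  ([0, 4, 5, 6, 8, 9, 10, 11, 14], 643, 4),
  ([0, 4, 5, 9, 11, 13, 14], 643, 5),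
  ([0, 4, 5, 6, 8, 9, 13], 643, 7),
  ([0, 4, 5, 6, 10, 11, 13], 643, 10),
  ([0, 4, 5, 9, 11, 12, 14], 644, 0),
  ([0, 5, 7, 8, 9, 10, 11, 13], 644, 1),
  ([0, 3, 5, 7, 8, 9, 10, 12], 644, 2),
  ([0, 4, 5, 6, 8, 9, 10, 11, 12, 14], 644, 8),
  ([0, 4, 5, 6, 8, 9, 12], 644, 10),
  ([0, 5, 6, 7, 9, 10, 11, 12, 14], 645, 1),
  ([0, 3, 5, 6, 7, 10, 12, 14], 645, 2),
  ([0, 4, 5, 9, 10, 12, 13], 645, 3),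
  ([0, 4, 5, 8, 10, 11, 12, 13], 645, 4),
  ([0, 4, 5, 9, 11, 12, 13, 14], 645, 9),
  ([0, 3, 5, 7, 10], 646, 2),
  ([0, 4, 5, 6, 12, 13], 646, 3),
  ([0, 4, 5, 6, 10, 11], 646, 10),
  ([0, 3, 5, 7, 8, 9, 11, 13, 14], 647, 2),
  ([0, 4, 5, 8], 649, 0),
  ([0, 5, 7, 10, 12], 649, 1),
  ([0, 4, 5, 9, 10], 649, 5),
  ([0, 3, 4, 5, 6, 7, 10, 11, 12], 650, 2),
  ([0, 5, 6, 7, 9, 10, 11, 14], 650, 3),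
  ([0, 5, 6, 7, 9, 11, 14], 650, 4)]

/-- involutions, with the position of a conjugate and the conjugating letter -/
def classTab7 : List (List ℕ × ℕ × ℕ) := [
  ([0, 5, 6, 7, 8, 10, 11, 13], 650, 6),
  ([0, 5, 6, 7, 8, 11, 14], 650, 11),
  ([0, 3, 5, 7, 10, 12, 13, 14], 651, 0),
  ([0, 3, 5, 6, 7, 11, 13], 651, 3),
  ([0, 3, 5, 6, 7, 8, 9, 10, 11, 13, 14], 651, 6),
  ([0, 3, 5, 6, 7, 11], 651, 7),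
  ([0, 3, 5, 6, 7, 8, 9, 12, 13, 14], 651, 8),
  ([0, 3, 5, 6, 7, 8, 9], 651, 9),
  ([0, 3, 5, 6, 7, 11, 12, 14], 653, 2),
  ([0, 4, 5, 9, 10, 12], 653, 9),
  ([0, 3, 5, 6, 7, 8, 9, 12, 14], 654, 2),
  ([0, 4, 5, 8, 12], 654, 9),
  ([0, 5, 6, 7, 8, 10, 11, 12], 656, 1),
  ([0, 4, 5, 6, 8, 9, 12, 13], 656, 5),
  ([0, 3, 4, 5, 6, 7, 11, 13], 657, 2),
  ([0, 5, 6, 7, 9, 10, 11, 13, 14], 657, 4),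
  ([0, 5, 6, 7, 8, 11, 12, 13, 14], 657, 6),
  ([0, 5, 7, 8, 9, 11, 12, 13], 658, 1),
  ([0, 3, 5, 7, 8, 9, 11, 12], 658, 2),
  ([0, 3, 4, 5, 6, 7, 8, 9, 12, 14], 659, 0),
  ([0, 3, 4, 5, 7, 8, 9, 10, 11, 12, 13, 14], 659, 3),
  ([0, 3, 4, 5, 7, 8, 9, 10, 11, 13], 659, 4),
  ([0, 3, 4, 5, 6, 7, 11], 659, 5),
  ([0, 3, 4, 5, 7, 8, 9, 10, 11], 659, 6),
  ([0, 3, 4, 5, 7, 11, 13, 14], 659, 7),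
  ([0, 3, 4, 5, 7, 8, 9, 11, 13, 14], 659, 8),
  ([0, 5, 7, 10], 660, 4),
  ([0, 5, 7, 8, 9, 11, 12], 660, 6),
  ([0, 5, 7, 8, 9, 10, 11, 12], 660, 11),
  ([0, 3, 4, 5, 7, 11, 12, 13], 661, 2),
  ([0, 5, 6, 7, 8, 11, 13, 14], 661, 5),
  ([0, 5, 7, 14], 661, 7),
  ([0, 5, 7, 8, 9, 11], 661, 9),
  ([0, 3, 4, 5, 6, 7, 8, 9, 13], 662, 2),
  ([0, 5, 6, 7, 9, 11, 12, 13, 14], 662, 11),
  ([0, 3, 4, 5, 7, 8, 9, 11, 12, 13], 663, 2),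
  ([0, 5, 6, 7, 9, 10, 11, 12, 13, 14], 663, 5),
  ([0, 3, 4, 5, 7, 10, 11, 14], 664, 2),
  ([0, 3, 4, 5, 7, 8, 9, 11, 12], 665, 2),
  ([0, 3, 5, 7, 11, 14], 668, 5),
  ([0, 3, 5, 6, 7, 11, 12, 13, 14], 668, 7),
  ([0, 3, 4, 5, 7, 10, 11, 12], 669, 0),
  ([0, 3, 5, 7, 8, 9, 10, 14], 669, 1),
  ([0, 3, 4, 5, 6, 7, 11, 12, 13, 14], 669, 3),
  ([0, 3, 4, 5, 7, 8, 9, 11, 14], 669, 5),
  ([0, 3, 4, 5, 6, 7, 10, 11, 14], 669, 6),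
  ([0, 3, 4, 5, 6, 7, 11, 12, 14], 669, 9),
  ([0, 3, 5, 6, 7, 10, 12, 13, 14], 670, 0),
  ([0, 3, 4, 5, 6, 7, 8, 9, 10, 12, 14], 670, 1),
  ([0, 3, 5, 7, 8, 9, 10, 13, 14], 670, 8),
  ([0, 3, 5, 7, 8, 9, 11, 14], 670, 10),
  ([0, 3, 5, 7, 10, 12, 14], 671, 0),
  ([0, 3, 5, 6, 7, 8, 9, 13], 671, 9),
  ([0, 5, 6, 7, 9, 11, 12, 14], 680, 1),
  ([0, 3, 4, 5, 7, 11, 14], 681, 2),
  ([0, 3, 4, 5, 6, 7, 8, 9], 682, 1),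
  ([0, 3, 4, 5, 6, 7, 8, 9, 10, 12, 13, 14], 685, 2),
  ([0, 5, 6, 7, 8, 10, 11, 12, 13], 685, 4),
  ([0, 3, 5, 6, 7, 10, 13], 686, 4),
  ([0, 3, 4, 5, 6, 7, 8, 9, 10], 693, 1),
  ([0, 3, 5, 6, 7, 10], 693, 5),
  ([0, 3, 4, 5, 7, 10, 11, 13, 14], 697, 0),
  ([0, 3, 4, 5, 6, 7, 10, 11, 12, 13], 697, 6),
  ([0, 3, 4, 5, 6, 7, 8, 9, 10, 13], 715, 2),
  ([0, 3, 4, 5, 7, 10, 11, 12, 13], 717, 2),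
  ([0, 3, 4, 5, 6, 7, 8, 9, 12, 13, 14], 720, 0),
  ([0, 3, 4, 5, 7, 11, 12], 721, 7),
  ([1, 3, 6, 9], 0, 99),
  ([1, 3, 4, 7, 8, 10, 12, 13], 767, 0),
  ([1, 3, 6, 7, 9, 10, 12], 767, 1),
  ([1, 3, 4, 5, 6, 7, 10, 12, 13], 767, 2),
  ([1, 3, 6, 7, 9, 10, 13], 767, 3),
  ([1, 3, 6, 9, 11, 12, 13], 767, 4),
  ([1, 3, 6, 9, 12], 767, 6),
  ([1, 3, 6, 9, 11, 13], 767, 8),
  ([1, 3, 6, 9, 12, 13], 767, 9),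
  ([1, 3, 6, 9, 11], 767, 10),
  ([1, 3, 4, 9, 10, 13, 14], 768, 1),
  ([1, 3, 5, 6, 7, 10, 11, 13], 768, 2),
  ([1, 3, 4, 9, 10, 12, 14], 768, 3),
  ([1, 3, 4, 7, 8, 10, 12], 768, 4),
  ([1, 3, 4, 7, 8, 10, 13], 768, 5),
  ([1, 3, 4, 7, 8, 10, 11, 12, 13], 768, 6),
  ([1, 3, 4, 7, 8, 10, 11], 768, 7),
  ([1, 3, 4, 7, 8, 10, 11, 12], 768, 9),
  ([1, 3, 4, 7, 8, 10, 11, 13], 768, 10),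
  ([1, 3, 4, 5, 6, 9, 10, 11, 12, 14], 769, 2),
  ([1, 3, 6, 9, 13], 769, 3),
  ([1, 3, 6, 7, 9, 10, 12, 13], 769, 4),
  ([1, 3, 6, 7, 9, 10, 11, 13, 14], 769, 5),
  ([1, 3, 6, 7, 9, 10, 11, 14], 769, 7),
  ([1, 3, 6, 7, 9, 10, 11, 12, 14], 769, 8),
  ([1, 3, 6, 7, 9, 10, 11, 12, 13, 14], 769, 10),
  ([1, 3, 5, 6, 8, 10, 11, 13, 14], 770, 0),
  ([1, 3, 4, 5, 6, 9, 10, 12, 14], 770, 1),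
  ([1, 3, 4, 5, 6, 7, 10, 11], 770, 5),
  ([1, 3, 4, 5, 6, 7, 10, 12], 770, 6),
  ([1, 3, 4, 5, 6, 7, 10, 13, 14], 770, 9),
  ([1, 3, 4, 5, 6, 7, 10, 11, 12, 14], 770, 10),
  ([1, 3, 6, 9, 11, 12], 771, 1)]

/-- involutions, with the position of a conjugate and the conjugating letter -/
def classTab8 : List (List ℕ × ℕ × ℕ) := [
  ([1, 3, 4, 5, 6, 9, 10, 11], 771, 2),
  ([1, 3, 6, 7, 9, 10], 771, 4),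
  ([1, 3, 4, 5, 6, 7, 10, 14], 773, 2),
  ([1, 3, 4, 5, 6, 7, 10, 11, 12, 13, 14], 774, 2),
  ([1, 3, 4, 7, 8, 10], 775, 0),
  ([1, 3, 5, 6, 8, 10, 11, 12, 13], 777, 2),
  ([1, 3, 4, 9, 10, 11, 13], 777, 4),
  ([1, 3, 4, 9, 10, 12, 13, 14], 777, 6),
  ([1, 3, 4, 9, 10, 11, 12, 13], 777, 7),
  ([1, 3, 4, 9, 10, 14], 777, 8),
  ([1, 3, 4, 9, 10, 11, 12], 777, 10),
  ([1, 3, 5, 6, 8, 10, 12, 13], 778, 3),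
  ([1, 3, 5, 6, 7, 10, 11], 778, 6),
  ([1, 3, 5, 6, 7, 10, 14], 778, 7),
  ([1, 3, 5, 6, 7, 10, 12], 778, 8),
  ([1, 3, 5, 6, 7, 10, 13, 14], 778, 9),
  ([1, 3, 5, 6, 7, 10, 12, 13], 778, 10),
  ([1, 3, 4, 9, 10, 11], 779, 7),
  ([1, 3, 5, 6, 7, 10, 11, 12, 14], 781, 2),
  ([1, 3, 4, 5, 6, 7, 10, 11, 13], 786, 3),
  ([1, 3, 4, 5, 6, 9, 10, 11, 13], 786, 4),
  ([1, 3, 4, 5, 6, 9, 10, 12, 13, 14], 786, 6),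
  ([1, 3, 4, 5, 6, 9, 10, 11, 12, 13, 14], 786, 8),
  ([1, 3, 4, 5, 6, 9, 10, 13], 789, 2),
  ([1, 3, 4, 5, 6, 9, 10], 790, 2),
  ([1, 3, 5, 6, 7, 10, 11, 12, 13, 14], 793, 3),
  ([1, 3, 5, 6, 8, 10, 11, 12], 793, 4),
  ([1, 3, 5, 6, 8, 10, 11, 14], 793, 5),
  ([1, 3, 5, 6, 8, 10, 13, 14], 793, 7),
  ([1, 3, 5, 6, 8, 10, 14], 793, 9),
  ([1, 3, 5, 6, 8, 10, 12], 793, 10),
  ([3, 4, 6, 7], 0, 99),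
  ([3, 4, 6, 7, 9, 10, 11, 14], 831, 0),
  ([3, 4, 6, 8, 9, 10, 14], 831, 1),
  ([3, 4, 6, 7, 10, 11, 12, 14], 831, 2),
  ([3, 4, 6, 7, 8, 9, 10], 831, 3),
  ([3, 4, 6, 7, 8, 9, 11, 12, 13, 14], 831, 4),
  ([3, 4, 6, 7, 8, 10, 11, 12, 13], 831, 5),
  ([3, 4, 6, 7, 12, 14], 831, 7),
  ([3, 4, 6, 7, 13, 14], 831, 8),
  ([3, 4, 6, 7, 10, 11, 12, 13], 832, 0),
  ([3, 4, 6, 8, 11, 12, 13], 832, 1),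
  ([3, 4, 6, 7, 9, 12, 13, 14], 832, 2),
  ([3, 4, 6, 7, 8, 13], 832, 3),
  ([3, 4, 6, 7, 8, 10, 11, 12, 14], 832, 4),
  ([3, 4, 6, 7, 9, 10, 11, 12, 13, 14], 832, 7),
  ([3, 4, 6, 7, 9, 10, 11, 13], 832, 10),
  ([3, 4, 6, 9, 10, 12, 13], 833, 0),
  ([3, 4, 6, 8, 11, 12, 14], 833, 2),
  ([3, 4, 6, 12], 833, 3),
  ([3, 4, 6, 10, 14], 833, 4),
  ([3, 4, 6, 9, 12, 13], 833, 5),
  ([3, 4, 6, 8, 9, 13, 14], 833, 6),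
  ([3, 4, 6, 8, 9, 10, 12], 833, 7),
  ([3, 4, 6, 8, 9, 10, 13], 833, 8),
  ([3, 4, 6, 7, 9, 12], 834, 0),
  ([3, 4, 6, 7, 8, 9, 11, 14], 834, 3),
  ([3, 4, 6, 7, 8, 9, 10, 12, 14], 834, 4),
  ([3, 4, 6, 7, 8, 12], 834, 5),
  ([3, 4, 6, 7, 10, 11, 13, 14], 834, 7),
  ([3, 4, 6, 14], 835, 1),
  ([3, 4, 6, 7, 10, 11], 835, 4),
  ([3, 4, 6, 7, 9, 14], 835, 5),
  ([3, 4, 6, 7, 8, 9, 11, 13], 835, 6),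
  ([3, 4, 6, 7, 8, 9, 10, 13, 14], 835, 9),
  ([3, 4, 6, 7, 8, 9, 11, 12], 836, 9),
  ([3, 4, 6, 7, 8, 9, 10, 12, 13], 837, 0),
  ([3, 4, 6, 9, 12, 14], 837, 1),
  ([3, 4, 6, 7, 8, 10, 11, 13, 14], 837, 2),
  ([3, 4, 6, 7, 9, 13], 837, 3),
  ([3, 4, 6, 7, 8, 12, 13, 14], 837, 6),
  ([3, 4, 6, 7, 9, 10, 11, 12], 838, 0),
  ([3, 4, 6, 7, 12, 13], 838, 8),
  ([3, 4, 6, 8, 9], 840, 1),
  ([3, 4, 6, 10, 12, 13, 14], 841, 0),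
  ([3, 4, 6, 9, 10], 841, 3),
  ([3, 4, 6, 8, 10, 11, 12, 13, 14], 841, 6),
  ([3, 4, 6, 8, 11], 841, 7),
  ([3, 4, 6, 7, 8, 10, 11], 842, 3),
  ([3, 4, 6, 7, 8, 14], 843, 8),
  ([3, 4, 6, 10, 13], 847, 2),
  ([3, 4, 6, 8, 11, 13, 14], 847, 3),
  ([3, 4, 6, 8, 10, 11, 13], 847, 4),
  ([3, 4, 6, 8, 9, 12, 13], 847, 5),
  ([3, 4, 6, 9], 847, 6),
  ([3, 4, 6, 9, 10, 12, 14], 847, 8),
  ([3, 4, 6, 10, 12], 848, 0),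
  ([3, 4, 6, 9, 10, 13, 14], 848, 3),
  ([3, 4, 6, 8, 10, 11, 12], 848, 6),
  ([3, 4, 6, 12, 13, 14], 849, 11),
  ([3, 4, 6, 8, 10, 11, 14], 850, 0),
  ([3, 4, 6, 13], 851, 2),
  ([3, 4, 6, 9, 13, 14], 851, 7),
  ([3, 4, 6, 8, 9, 12, 14], 852, 7),
  ([3, 4, 6, 8, 9, 10, 12, 13, 14], 853, 8),
  ([4, 5, 7, 12], 0, 99),
  ([4, 5, 6, 7, 9, 13, 14], 895, 0),
  ([4, 5, 7, 9, 10, 11, 12, 13], 895, 1),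
  ([4, 5, 7, 11, 13], 895, 2),
  ([4, 5, 7, 9, 10, 11, 12, 14], 895, 3)]

/-- involutions, with the position of a conjugate and the conjugating letter -/
def classTab9 : List (List ℕ × ℕ × ℕ) := [
  ([4, 5, 7, 14], 895, 4),
  ([4, 5, 7, 11, 12], 895, 5),
  ([4, 5, 7, 11, 14], 895, 7),
  ([4, 5, 7, 11, 12, 13, 14], 895, 8),
  ([4, 5, 7, 12, 13, 14], 895, 9),
  ([4, 5, 6, 7, 13], 896, 1),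
  ([4, 5, 6, 7, 11, 13, 14], 896, 2),
  ([4, 5, 6, 7, 12, 13, 14], 896, 3),
  ([4, 5, 6, 7, 9, 11, 13], 896, 4),
  ([4, 5, 6, 7, 9, 12, 14], 896, 6),
  ([4, 5, 6, 7, 9, 11, 12, 13, 14], 896, 8),
  ([4, 5, 6, 7, 9], 896, 10),
  ([4, 5, 7, 13], 897, 1),
  ([4, 5, 7, 9, 10, 13, 14], 897, 2),
  ([4, 5, 7, 9, 10], 897, 4),
  ([4, 5, 7, 9, 10, 11], 897, 6),
  ([4, 5, 7, 9, 10, 12, 13], 897, 8),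
  ([4, 5, 6, 7, 9, 11, 14], 898, 0),
  ([4, 5, 6, 7, 12], 899, 0),
  ([4, 5, 7, 9, 10, 11, 13, 14], 899, 6),
  ([4, 5, 7, 9, 10, 12, 14], 899, 8),
  ([4, 5, 6, 7, 9, 12, 13], 900, 0),
  ([4, 5, 6, 7, 9, 11, 12], 903, 0),
  ([4, 5, 6, 7, 11, 12, 14], 905, 8),
  ([4, 5, 6, 7, 14], 905, 10),
  ([4, 5, 6, 7, 11, 12, 13], 906, 4),
  ([4, 5, 6, 7, 11], 906, 10),
  ([1, 3, 4, 9, 10], 0, 99),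
  ([1, 3, 6, 7, 9, 10, 12, 13, 14], 927, 0),
  ([1, 3, 4, 7, 8, 10, 11, 12, 13, 14], 927, 1),
  ([1, 3, 5, 6, 8, 10, 11, 12, 14], 927, 2),
  ([1, 3, 4, 7, 8, 10, 12, 13, 14], 927, 3),
  ([1, 3, 4, 9, 10, 11, 14], 927, 4),
  ([1, 3, 4, 9, 10, 12], 927, 6),
  ([1, 3, 4, 9, 10, 11, 12, 14], 927, 7),
  ([1, 3, 4, 9, 10, 13], 927, 8),
  ([1, 3, 4, 9, 10, 11, 12, 13, 14], 927, 10),
  ([1, 3, 4, 9, 10, 12, 13], 928, 0),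
  ([1, 3, 6, 9, 11, 14], 928, 1),
  ([1, 3, 4, 5, 6, 9, 10, 11, 12, 13], 928, 2),
  ([1, 3, 6, 9, 14], 928, 3),
  ([1, 3, 6, 7, 9, 10, 12, 14], 928, 4),
  ([1, 3, 6, 7, 9, 10, 11], 928, 5),
  ([1, 3, 6, 7, 9, 10, 11, 13], 928, 7),
  ([1, 3, 6, 7, 9, 10, 11, 12, 13], 928, 8),
  ([1, 3, 6, 7, 9, 10, 14], 928, 9),
  ([1, 3, 6, 7, 9, 10, 11, 12], 928, 10),
  ([1, 3, 6, 9, 13, 14], 929, 0),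
  ([1, 3, 5, 6, 7, 10], 929, 2),
  ([1, 3, 4, 7, 8, 10, 11, 12, 14], 929, 4),
  ([1, 3, 4, 7, 8, 10, 11, 13, 14], 929, 5),
  ([1, 3, 4, 7, 8, 10, 14], 929, 7),
  ([1, 3, 4, 7, 8, 10, 12, 14], 929, 9),
  ([1, 3, 4, 7, 8, 10, 13, 14], 929, 10),
  ([1, 3, 4, 5, 6, 7, 10], 930, 0),
  ([1, 3, 5, 6, 7, 10, 11, 12], 930, 1),
  ([1, 3, 5, 6, 7, 10, 11, 14], 930, 3),
  ([1, 3, 5, 6, 8, 10, 11, 13], 930, 4),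
  ([1, 3, 5, 6, 8, 10, 11, 12, 13, 14], 930, 5),
  ([1, 3, 5, 6, 8, 10], 930, 6),
  ([1, 3, 5, 6, 8, 10, 12, 14], 930, 7),
  ([1, 3, 5, 6, 8, 10, 12, 13, 14], 930, 9),
  ([1, 3, 5, 6, 8, 10, 13], 930, 10),
  ([1, 3, 6, 9, 11, 12, 13, 14], 931, 0),
  ([1, 3, 5, 6, 7, 10, 11, 13, 14], 931, 2),
  ([1, 3, 4, 7, 8, 10, 11, 14], 931, 7),
  ([1, 3, 4, 9, 10, 11, 13, 14], 932, 8),
  ([1, 3, 6, 7, 9, 10, 13, 14], 933, 0),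
  ([1, 3, 5, 6, 8, 10, 11], 937, 2),
  ([1, 3, 4, 5, 6, 7, 10, 11, 12], 938, 2),
  ([1, 3, 6, 9, 12, 13, 14], 938, 4),
  ([1, 3, 6, 9, 11, 12, 14], 938, 6),
  ([1, 3, 4, 5, 6, 7, 10, 13], 939, 1),
  ([1, 3, 4, 5, 6, 7, 10, 11, 14], 939, 3),
  ([1, 3, 4, 5, 6, 9, 10, 11, 14], 939, 4),
  ([1, 3, 4, 5, 6, 9, 10, 12], 939, 6),
  ([1, 3, 4, 5, 6, 9, 10, 11, 12], 939, 8),
  ([1, 3, 4, 5, 6, 9, 10, 11, 13, 14], 939, 9),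
  ([1, 3, 4, 5, 6, 9, 10, 12, 13], 939, 10),
  ([1, 3, 4, 5, 6, 7, 10, 12, 13, 14], 940, 2),
  ([1, 3, 6, 9, 12, 14], 940, 6),
  ([1, 3, 6, 9, 11, 13, 14], 940, 8),
  ([1, 3, 4, 5, 6, 9, 10, 14], 942, 2),
  ([1, 3, 4, 5, 6, 9, 10, 13, 14], 943, 2),
  ([1, 3, 4, 5, 6, 7, 10, 12, 14], 947, 2),
  ([1, 3, 5, 6, 7, 10, 13], 948, 6),
  ([1, 3, 5, 6, 7, 10, 11, 12, 13], 948, 8),
  ([1, 3, 5, 6, 7, 10, 12, 13, 14], 950, 2),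
  ([1, 3, 4, 5, 6, 7, 10, 11, 12, 13], 954, 5),
  ([1, 3, 4, 5, 6, 7, 10, 11, 13, 14], 954, 10),
  ([1, 3, 5, 6, 7, 10, 12, 14], 955, 9)]

/-- involutions, with the position of a conjugate and the conjugating letter -/
def classTab : List (List ℕ × ℕ × ℕ) := classTab0 ++ classTab1 ++ classTab2 ++ classTab3 ++ classTab4 ++ classTab5 ++ classTab6 ++ classTab7 ++ classTab8 ++ classTab9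

/-- representatives with a conjugating word, its inverse and an odd exponent -/
def rootCert0 : List (List ℕ × List ℕ × List ℕ × ℕ) := [
  ([4], [1, 1], [1, 1, 1, 1, 1, 1, 1, 1, 1, 1, 1, 1, 1, 1, 1, 1, 1, 1, 1, 1, 1, 1, 1, 1, 1, 1, 1, 1, 1, 1, 1, 1, 1, 1, 1, 1, 1, 1, 1, 1, 1, 1, 1, 1, 1, 1, 1, 1, 1, 1, 1, 1, 1, 1, 1, 1], 13),
  ([9], [0, 1, 1], [1, 1, 1, 1, 1, 1, 1, 1, 1, 1, 1, 1, 1, 1, 1, 1, 1, 1, 1, 1, 1, 1, 1, 1, 1, 1, 1, 1, 1, 1, 1, 1, 1, 1, 1, 1, 1, 1, 1, 1, 1, 1, 1, 1, 1, 1, 1, 1, 1, 1, 1, 1, 1, 1, 1, 1, 0, 0, 0, 0, 0, 0, 0, 0, 0, 0, 0, 0, 0, 0, 0, 0, 0, 0, 0, 0, 0, 0, 0, 0, 0, 0, 0, 0], 7),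
  ([10], [1], [1, 1, 1, 1, 1, 1, 1, 1, 1, 1, 1, 1, 1, 1, 1, 1, 1, 1, 1, 1, 1, 1, 1, 1, 1, 1, 1, 1], 7),
  ([11], [1], [1, 1, 1, 1, 1, 1, 1, 1, 1, 1, 1, 1, 1, 1, 1, 1, 1, 1, 1, 1, 1, 1, 1, 1, 1, 1, 1, 1], 13),
  ([12], [1, 1], [1, 1, 1, 1, 1, 1, 1, 1, 1, 1, 1, 1, 1, 1, 1, 1, 1, 1, 1, 1, 1, 1, 1, 1, 1, 1, 1, 1, 1, 1, 1, 1, 1, 1, 1, 1, 1, 1, 1, 1, 1, 1, 1, 1, 1, 1, 1, 1, 1, 1, 1, 1, 1, 1, 1, 1], 7),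
  ([2, 7], [0, 0, 0], [0, 0, 0, 0, 0, 0, 0, 0, 0, 0, 0, 0, 0, 0, 0, 0, 0, 0, 0, 0, 0, 0, 0, 0, 0, 0, 0, 0, 0, 0, 0, 0, 0, 0, 0, 0, 0, 0, 0, 0, 0, 0, 0, 0, 0, 0, 0, 0, 0, 0, 0, 0, 0, 0, 0, 0, 0, 0, 0, 0, 0, 0, 0, 0, 0, 0, 0, 0, 0, 0, 0, 0, 0, 0, 0, 0, 0, 0, 0, 0, 0, 0, 0, 0], 7),
  ([4, 11], [1, 1], [1, 1, 1, 1, 1, 1, 1, 1, 1, 1, 1, 1, 1, 1, 1, 1, 1, 1, 1, 1, 1, 1, 1, 1, 1, 1, 1, 1, 1, 1, 1, 1, 1, 1, 1, 1, 1, 1, 1, 1, 1, 1, 1, 1, 1, 1, 1, 1, 1, 1, 1, 1, 1, 1, 1, 1], 13),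
  ([8, 9], [0], [0, 0, 0, 0, 0, 0, 0, 0, 0, 0, 0, 0, 0, 0, 0, 0, 0, 0, 0, 0, 0, 0, 0, 0, 0, 0, 0, 0], 3),
  ([9, 11], [0, 0, 1], [1, 1, 1, 1, 1, 1, 1, 1, 1, 1, 1, 1, 1, 1, 1, 1, 1, 1, 1, 1, 1, 1, 1, 1, 1, 1, 1, 1, 0, 0, 0, 0, 0, 0, 0, 0, 0, 0, 0, 0, 0, 0, 0, 0, 0, 0, 0, 0, 0, 0, 0, 0, 0, 0, 0, 0, 0, 0, 0, 0, 0, 0, 0, 0, 0, 0, 0, 0, 0, 0, 0, 0, 0, 0, 0, 0, 0, 0, 0, 0, 0, 0, 0, 0], 7),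
  ([10, 13], [1], [1, 1, 1, 1, 1, 1, 1, 1, 1, 1, 1, 1, 1, 1, 1, 1, 1, 1, 1, 1, 1, 1, 1, 1, 1, 1, 1, 1], 13),
  ([11, 13], [0, 0], [0, 0, 0, 0, 0, 0, 0, 0, 0, 0, 0, 0, 0, 0, 0, 0, 0, 0, 0, 0, 0, 0, 0, 0, 0, 0, 0, 0, 0, 0, 0, 0, 0, 0, 0, 0, 0, 0, 0, 0, 0, 0, 0, 0, 0, 0, 0, 0, 0, 0, 0, 0, 0, 0, 0, 0], 7),
  ([12, 13], [1, 1], [1, 1, 1, 1, 1, 1, 1, 1, 1, 1, 1, 1, 1, 1, 1, 1, 1, 1, 1, 1, 1, 1, 1, 1, 1, 1, 1, 1, 1, 1, 1, 1, 1, 1, 1, 1, 1, 1, 1, 1, 1, 1, 1, 1, 1, 1, 1, 1, 1, 1, 1, 1, 1, 1, 1, 1], 13),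
  ([0, 5, 7], [1, 1, 1], [1, 1, 1, 1, 1, 1, 1, 1, 1, 1, 1, 1, 1, 1, 1, 1, 1, 1, 1, 1, 1, 1, 1, 1, 1, 1, 1, 1, 1, 1, 1, 1, 1, 1, 1, 1, 1, 1, 1, 1, 1, 1, 1, 1, 1, 1, 1, 1, 1, 1, 1, 1, 1, 1, 1, 1, 1, 1, 1, 1, 1, 1, 1, 1, 1, 1, 1, 1, 1, 1, 1, 1, 1, 1, 1, 1, 1, 1, 1, 1, 1, 1, 1, 1], 7),
  ([2, 7, 9], [1, 1, 1], [1, 1, 1, 1, 1, 1, 1, 1, 1, 1, 1, 1, 1, 1, 1, 1, 1, 1, 1, 1, 1, 1, 1, 1, 1, 1, 1, 1, 1, 1, 1, 1, 1, 1, 1, 1, 1, 1, 1, 1, 1, 1, 1, 1, 1, 1, 1, 1, 1, 1, 1, 1, 1, 1, 1, 1, 1, 1, 1, 1, 1, 1, 1, 1, 1, 1, 1, 1, 1, 1, 1, 1, 1, 1, 1, 1, 1, 1, 1, 1, 1, 1, 1, 1], 7),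
  ([3, 4, 6], [1], [1, 1, 1, 1, 1, 1, 1, 1, 1, 1, 1, 1, 1, 1, 1, 1, 1, 1, 1, 1, 1, 1, 1, 1, 1, 1, 1, 1], 13),
  ([4, 5, 7], [0], [0, 0, 0, 0, 0, 0, 0, 0, 0, 0, 0, 0, 0, 0, 0, 0, 0, 0, 0, 0, 0, 0, 0, 0, 0, 0, 0, 0], 7),
  ([8, 9, 13], [0, 0], [0, 0, 0, 0, 0, 0, 0, 0, 0, 0, 0, 0, 0, 0, 0, 0, 0, 0, 0, 0, 0, 0, 0, 0, 0, 0, 0, 0, 0, 0, 0, 0, 0, 0, 0, 0, 0, 0, 0, 0, 0, 0, 0, 0, 0, 0, 0, 0, 0, 0, 0, 0, 0, 0, 0, 0], 7),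
  ([0, 4, 5, 6], [1], [1, 1, 1, 1, 1, 1, 1, 1, 1, 1, 1, 1, 1, 1, 1, 1, 1, 1, 1, 1, 1, 1, 1, 1, 1, 1, 1, 1], 13),
  ([1, 3, 6, 9], [0, 0], [0, 0, 0, 0, 0, 0, 0, 0, 0, 0, 0, 0, 0, 0, 0, 0, 0, 0, 0, 0, 0, 0, 0, 0, 0, 0, 0, 0, 0, 0, 0, 0, 0, 0, 0, 0, 0, 0, 0, 0, 0, 0, 0, 0, 0, 0, 0, 0, 0, 0, 0, 0, 0, 0, 0, 0], 7),
  ([3, 4, 6, 7], [1, 1, 0], [0, 0, 0, 0, 0, 0, 0, 0, 0, 0, 0, 0, 0, 0, 0, 0, 0, 0, 0, 0, 0, 0, 0, 0, 0, 0, 0, 0, 1, 1, 1, 1, 1, 1, 1, 1, 1, 1, 1, 1, 1, 1, 1, 1, 1, 1, 1, 1, 1, 1, 1, 1, 1, 1, 1, 1, 1, 1, 1, 1, 1, 1, 1, 1, 1, 1, 1, 1, 1, 1, 1, 1, 1, 1, 1, 1, 1, 1, 1, 1, 1, 1, 1, 1], 7),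
  ([4, 5, 7, 12], [0, 0], [0, 0, 0, 0, 0, 0, 0, 0, 0, 0, 0, 0, 0, 0, 0, 0, 0, 0, 0, 0, 0, 0, 0, 0, 0, 0, 0, 0, 0, 0, 0, 0, 0, 0, 0, 0, 0, 0, 0, 0, 0, 0, 0, 0, 0, 0, 0, 0, 0, 0, 0, 0, 0, 0, 0, 0], 7),
  ([1, 3, 4, 9, 10], [0, 0, 0], [0, 0, 0, 0, 0, 0, 0, 0, 0, 0, 0, 0, 0, 0, 0, 0, 0, 0, 0, 0, 0, 0, 0, 0, 0, 0, 0, 0, 0, 0, 0, 0, 0, 0, 0, 0, 0, 0, 0, 0, 0, 0, 0, 0, 0, 0, 0, 0, 0, 0, 0, 0, 0, 0, 0, 0, 0, 0, 0, 0, 0, 0, 0, 0, 0, 0, 0, 0, 0, 0, 0, 0, 0, 0, 0, 0, 0, 0, 0, 0, 0, 0, 0, 0], 13)]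

/-- representatives with a conjugating word, its inverse and an odd exponent -/
def rootCert : List (List ℕ × List ℕ × List ℕ × ℕ) := rootCert0

end Cfsg.Agent.Spor.RuStandard
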