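/-
Collection in the Sylow 2-subgroup of the double cover of the Rudvalis group.
-/
import Cfsg.Agent.Lib.Spor.RuMult.Final
import Cfsg.Agent.Lib.Spor.RuStandard.Data

set_option autoImplicit false
set_option maxRecDepth 100000

namespace Cfsg.Agent.Spor.RuStandard

open Cfsg.Spor Cfsg.Agent.Spor.RuMult Cfsg.Agent.Spor.RuAut
open Cfsg.Agent.Lie.CentralRewrite (lval lval_cons lval_append tail mem_tail)

/-- the right side for a descent a ≥ b -/
def look (a b : ℕ) : Option (List ℕ) :=
  match (ruleTab.getD a [])[b]? with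
  | some e => some e.2
  | none => none

/-- collection with the collected part kept reversed -/
def col : ℕ → List ℕ → List ℕ → List ℕ
  | 0, acc, w => acc.reverse ++ w
  | _ + 1, acc, [] => acc.reverse
  | n + 1, [], b :: w => col n [b] w
  | n + 1, a :: acc, b :: w =>
    bif Nat.blt a b then col n (b :: a :: acc) w
    else match look a b with
      | some r => col n acc (r ++ w)
      | none => acc.reverse ++ a :: b :: w

/-- the collected form -/
def nf (w : List ℕ) : List ℕ := col 6000 [] w

/-- two words are collected to the same word -/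
def same (u v : List ℕ) : Bool := nf u == nf v

/-- all letters of the series -/
def inT (w : List ℕ) : Bool := w.all fun i => Nat.blt i 15

theorem tab_ok : (List.range 15).all (fun a => (List.range 15).all fun b =>
    match (ruleTab.getD a [])[b]? with
    | some e => Nat.ble b a && Nat.blt e.1 twoCert.rels.length &&
        (twoCert.rels.getD e.1 ([], [])).1 == [a, b] && (twoCert.rels.getD e.1 ([], [])).2 == e.2 &&
        e.2.all (fun i => Nat.blt i 15) &&
        bif Nat.beq a b then e.2.all (fun i => Nat.blt a i)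
        else match e.2 with
          | [] => false
          | h :: r => Nat.beq h b && r.all (fun i => Nat.ble a i)
    | none => Nat.blt a b) = true ∧ Nat.beq ruleTab.length 15 = true ∧
    (List.range 15).all (fun a => Nat.beq (ruleTab.getD a []).length (a + 1)) = true := by decide +kernel

variable {g : ℕ → fourRu}

theorem look_spec {a b : ℕ} {r : List ℕ} (h : look a b = some r) :
    a < 15 ∧ b ≤ a ∧ (∀ hg : Acts twoData g, lval g [a, b] = lval g r) ∧
      (a = b → ∀ i ∈ r, a < i ∧ i < 15) ∧ (b < a → ∃ w, r = b :: w ∧ ∀ i ∈ w, a ≤ i ∧ i < 15) := by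
  obtain ⟨hk, hlen, hlens⟩ := tab_ok
  have ha : a < 15 := by
    by_contra hn
    rw [look, List.getD_eq_default _ _ (by rw [Nat.eq_of_beq_eq_true hlen]; omega)] at h
    simp at h
  have hb : b < 15 := by
    by_contra hn
    have hl := Nat.eq_of_beq_eq_true (List.all_eq_true.1 hlens a (List.mem_range.2 ha))
    rw [look, List.getElem?_eq_none (by rw [hl]; omega)] at h
    simp at h
  have hc := List.all_eq_true.1 (List.all_eq_true.1 hk a (List.mem_range.2 ha)) b (List.mem_range.2 hb)
  rw [look] at h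
  revert h hc
  generalize (ruleTab.getD a [])[b]? = o
  intro h hc
  cases o with
  | none => simp at h
  | some e =>
    simp only [Option.some.injEq] at h
    subst h
    simp only [Bool.and_eq_true, Nat.ble_eq, Nat.blt_eq, beq_iff_eq, List.all_eq_true] at hc
    obtain ⟨⟨⟨⟨⟨hba, hlt⟩, hl⟩, hr⟩, h15⟩, hc⟩ := hc
    refine ⟨ha, hba, fun hg => ?_, ?_, ?_⟩
    · rw [← hl, ← hr]
      exact rels_hold two_dvalid hg two_rels _ (by
        rw [List.getD_eq_getElem _ _ hlt]; exact List.getElem_mem _)
    · rintro rfl i hi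
      rw [Nat.beq_refl, cond_true] at hc
      simp only [List.all_eq_true, Nat.blt_eq] at hc
      exact ⟨hc i hi, h15 i hi⟩
    · intro hlt'
      rw [show Nat.beq a b = false by rw [← Bool.not_eq_true, Nat.beq_eq]; omega, cond_false] at hc
      cases hw : e.2 with
      | nil => simp [hw] at hc
      | cons x w =>
        simp only [hw, Bool.and_eq_true, Nat.beq_eq, List.all_eq_true, Nat.ble_eq] at hc
        exact ⟨w, by rw [hc.1], fun i hi => ⟨hc.2 i hi, h15 i (hw ▸ List.mem_cons_of_mem _ hi)⟩⟩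

theorem look_total {a b : ℕ} (ha : a < 15) (hb : b ≤ a) : ∃ r, look a b = some r := by
  have hc := List.all_eq_true.1 (List.all_eq_true.1 tab_ok.1 a (List.mem_range.2 ha)) b
    (List.mem_range.2 (by omega))
  unfold look
  revert hc
  generalize (ruleTab.getD a [])[b]? = o
  intro hc
  cases o with
  | none => simp only [Nat.blt_eq] at hc; omega
  | some e => exact ⟨e.2, rfl⟩

variable (hg : Acts twoData g)
include hg

theorem col_val : ∀ (n : ℕ) (acc w : List ℕ), lval g (col n acc w) = lval g (acc.reverse ++ w)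
  | 0, _, _ => rfl
  | _ + 1, acc, [] => by rw [col, List.append_nil]
  | n + 1, [], b :: w => by rw [col, col_val n]; rfl
  | n + 1, a :: acc, b :: w => by
    rw [col]
    cases Nat.blt a b
    · rw [cond_false]
      cases h : look a b with
      | some r =>
        simp only
        rw [col_val n]
        simp only [lval_append, List.reverse_cons, List.append_assoc, List.singleton_append]
        rw [lval_cons, lval_cons, ← (look_spec h).2.2.1 hg]
        simp [lval, mul_assoc]
      | none => simp [List.append_assoc]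
    · rw [cond_true, col_val n]
      simp [List.append_assoc]

theorem nf_val (w : List ℕ) : lval g (nf w) = lval g w := col_val hg _ _ _

theorem same_val {u v : List ℕ} (h : same u v = true) : lval g u = lval g v := by
  rw [← nf_val hg u, ← nf_val hg v, beq_iff_eq.1 h]

omit hg

/-- the group of the letters from the k-th one -/
abbrev tl (g : ℕ → fourRu) (k : ℕ) : Subgroup fourRu := tail g 15 k

theorem mem_tl {k : ℕ} {w : List ℕ} (h : ∀ i ∈ w, k ≤ i ∧ i < 15) : lval g w ∈ tl g k := mem_tail h

theorem tl_anti {k m : ℕ} (h : k ≤ m) : tl g m ≤ tl g k :=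
  Subgroup.closure_mono (Set.image_mono fun _ hi => ⟨h.trans hi.1, hi.2⟩)

include hg

theorem tl_sq {i : ℕ} (hi : i < 15) : g i * g i ∈ tl g (i + 1) := by
  obtain ⟨r, hr⟩ := look_total hi le_rfl
  obtain ⟨-, -, h, h2, -⟩ := look_spec (g := g) hr
  have h' := h hg
  rw [show g i * g i = lval g [i, i] by simp [lval], h']
  exact mem_tl fun x hx => h2 rfl x hx

theorem tl_conj_gen {i l : ℕ} (hil : i < l) (hl : l < 15) : (g i)⁻¹ * g l * g i ∈ tl g l := by
  obtain ⟨r, hr⟩ := look_total hl hil.le
  obtain ⟨-, -, h, -, h2⟩ := look_spec (g := g) hr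
  obtain ⟨w, rfl, hw⟩ := h2 hil
  have h' := h hg
  simp only [lval_cons, show lval g [] = 1 from rfl, mul_one] at h'
  rw [mul_assoc, h', inv_mul_cancel_left]
  exact mem_tl hw

/-- each of the groups is normalised by all letters -/
theorem tl_conj {i j : ℕ} (hi : i < 15) : ∀ t ∈ tl g j, (g i)⁻¹ * t * g i ∈ tl g j := by
  intro t ht
  induction ht using Subgroup.closure_induction with
  | mem y hy =>
    obtain ⟨l, ⟨h1, h2⟩, rfl⟩ := hy
    rcases lt_trichotomy i l with h | rfl | h
    · exact tl_anti h1 (tl_conj_gen hg h h2)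
    · rw [inv_mul_cancel, one_mul]; exact Subgroup.subset_closure ⟨i, ⟨h1, h2⟩, rfl⟩
    · have hm : g i ∈ tl g j := Subgroup.subset_closure ⟨i, ⟨by omega, hi⟩, rfl⟩
      exact mul_mem (mul_mem (inv_mem hm) (Subgroup.subset_closure ⟨l, ⟨h1, h2⟩, rfl⟩)) hm
  | one => simp
  | mul a b _ _ ha hb =>
    rw [show (g i)⁻¹ * (a * b) * g i = ((g i)⁻¹ * a * g i) * ((g i)⁻¹ * b * g i) by group]
    exact mul_mem ha hb
  | inv a _ ha =>
    rw [show (g i)⁻¹ * a⁻¹ * g i = ((g i)⁻¹ * a * g i)⁻¹ by group]
    exact inv_mem ha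

omit hg in
theorem two_gen {E : Type*} [Group E] {x : E} {H : Subgroup E} {t : E}
    (hconj : ∀ s ∈ H, x⁻¹ * s * x ∈ H) (hsq : x * x ∈ H) (ht : t ∈ Subgroup.closure (insert x (H : Set E))) :
    t ∈ H ∨ x⁻¹ * t ∈ H := by
  have hconj' : ∀ s ∈ H, x * s * x⁻¹ ∈ H := fun s hs => by
    rw [show x * s * x⁻¹ = (x * x) * (x⁻¹ * s * x) * (x * x)⁻¹ by group]
    exact mul_mem (mul_mem hsq (hconj s hs)) (inv_mem hsq)
  induction ht using Subgroup.closure_induction with
  | mem y hy =>
    rcases Set.mem_insert_iff.1 hy with rfl | h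
    · exact Or.inr (by rw [inv_mul_cancel]; exact one_mem _)
    · exact Or.inl h
  | one => exact Or.inl (one_mem _)
  | mul a b _ _ ha hb =>
    rcases ha with ha | ha <;> rcases hb with hb | hb
    · exact Or.inl (mul_mem ha hb)
    · refine Or.inr ?_
      rw [show x⁻¹ * (a * b) = (x⁻¹ * a * x) * (x⁻¹ * b) by group]
      exact mul_mem (hconj a ha) hb
    · exact Or.inr (by rw [← mul_assoc]; exact mul_mem ha hb)
    · refine Or.inl ?_
      rw [show a * b = (x * x) * (x⁻¹ * (x⁻¹ * a) * x) * (x⁻¹ * b) by group]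
      exact mul_mem (mul_mem hsq (hconj _ ha)) hb
  | inv a _ ha =>
    rcases ha with ha | ha
    · exact Or.inl (inv_mem ha)
    · refine Or.inr ?_
      rw [show x⁻¹ * a⁻¹ = x⁻¹ * ((x⁻¹ * a)⁻¹ * (x * x)⁻¹) * x by group]
      exact hconj _ (mul_mem (inv_mem ha) (inv_mem hsq))

theorem tl_split {k : ℕ} (hk : k < 15) {t : fourRu} (ht : t ∈ tl g k) :
    t ∈ tl g (k + 1) ∨ (g k)⁻¹ * t ∈ tl g (k + 1) := by
  refine two_gen (fun s hs => tl_conj hg hk s hs) (tl_sq hg hk) ?_
  refine Subgroup.closure_mono ?_ ht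
  rintro _ ⟨l, ⟨h1, h2⟩, rfl⟩
  rcases h1.eq_or_lt with rfl | h
  · exact Set.mem_insert _ _
  · exact Set.mem_insert_of_mem _ (Subgroup.subset_closure ⟨l, ⟨h, h2⟩, rfl⟩)

/-- increasing normal forms -/
theorem exists_word : ∀ (d k : ℕ), k + d = 15 → ∀ t ∈ tl g k, ∃ w : List ℕ, w.Pairwise (· < ·) ∧
    (∀ i ∈ w, k ≤ i ∧ i < 15) ∧ lval g w = t
  | 0, k, hk, t, ht => by
    refine ⟨[], List.Pairwise.nil, by simp, ?_⟩
    obtain rfl : k = 15 := hk
    simp only [tl, tail, Set.Ico_self, Set.image_empty, Subgroup.closure_empty, Subgroup.mem_bot] at ht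
    rw [ht]; rfl
  | d + 1, k, hk, t, ht => by
    rcases tl_split hg (by omega) ht with h | h
    · obtain ⟨w, h1, h2, h3⟩ := exists_word d (k + 1) (by omega) t h
      exact ⟨w, h1, fun i hi => ⟨by have := (h2 i hi).1; omega, (h2 i hi).2⟩, h3⟩
    · obtain ⟨w, h1, h2, h3⟩ := exists_word d (k + 1) (by omega) _ h
      refine ⟨k :: w, List.pairwise_cons.2 ⟨fun i hi => (h2 i hi).1, h1⟩, ?_, ?_⟩
      · intro i hi
        rcases List.mem_cons.1 hi with rfl | hi
        · omega
        · exact ⟨by have := (h2 i hi).1; omega, (h2 i hi).2⟩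
      · rw [lval_cons, h3, mul_inv_cancel_left]

theorem tl_card_le {d k : ℕ} (hk : k + d = 15) : Nat.card ↥(tl g k) ≤ 2 ^ d := by
  have hrel := rels_hold two_dvalid hg two_rels
  have hM : twoCert.M ≤ twoCert.rels.length := by
    have h := two_valid.series
    unfold Cfsg.Agent.Lie.CentralRewrite.seriesOK at h
    rw [Bool.and_eq_true, Nat.ble_eq] at h
    exact h.1
  exact Cfsg.Agent.Lie.CentralRewrite.card_tail (show 0 < twoCert.p from Nat.succ_pos _) two_valid.series
    (fun r hr => hrel _ (by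
      rw [List.getD_eq_getElem _ _ (lt_of_lt_of_le hr hM)]; exact List.getElem_mem _)) d k hk

/-- the series is strict -/
theorem tl_strict {k : ℕ} (hk : k < 15) : g k ∉ tl g (k + 1) := by
  intro hmem
  have hstep : ∀ j, j < 15 → Nat.card ↥(tl g j) ≤ 2 * Nat.card ↥(tl g (j + 1)) := by
    intro j hj
    classical
    refine le_trans (Nat.card_le_card_of_injective
      (fun t : ↥(tl g j) => if h : (t : fourRu) ∈ tl g (j + 1) then (Sum.inl ⟨_, h⟩ : ↥(tl g (j + 1)) ⊕ ↥(tl g (j + 1)))
        else Sum.inr ⟨_, (tl_split hg hj t.2).resolve_left h⟩) ?_) (by rw [Nat.card_sum]; omega)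
    intro a b e
    dsimp only at e
    by_cases ha : (a : fourRu) ∈ tl g (j + 1) <;> by_cases hb : (b : fourRu) ∈ tl g (j + 1) <;>
      simp only [ha, hb, dite_true, dite_false, Sum.inl.injEq, Sum.inr.injEq, Subtype.mk.injEq, mul_right_inj,
        reduceCtorEq] at e
    · exact Subtype.ext e
    · exact Subtype.ext e
  have heq : tl g k = tl g (k + 1) := by
    refine le_antisymm ((Subgroup.closure_le _).2 ?_) (tl_anti k.le_succ)
    rintro _ ⟨l, ⟨h1, h2⟩, rfl⟩
    rcases h1.eq_or_lt with rfl | h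
    · exact hmem
    · exact Subgroup.subset_closure ⟨l, ⟨h, h2⟩, rfl⟩
  have hdown : ∀ j, j ≤ k → Nat.card ↥(tl g 0) ≤ 2 ^ j * Nat.card ↥(tl g j) := by
    intro j
    induction j with
    | zero => simp
    | succ j ih =>
      intro hj
      refine (ih (by omega)).trans ?_
      rw [pow_succ, mul_assoc]
      exact Nat.mul_le_mul_left _ (hstep j (by omega))
  have h0 : Nat.card ↥(tl g 0) = 2 ^ 15 := card_two_sylow hg
  have h1 := hdown k le_rfl
  rw [h0, heq] at h1
  have h2 : 2 ^ k * Nat.card ↥(tl g (k + 1)) ≤ 2 ^ 14 := by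
    refine (Nat.mul_le_mul_left _ (tl_card_le hg (d := 14 - k) (k := k + 1) (by omega))).trans ?_
    rw [← pow_add, show k + (14 - k) = 14 by omega]
  omega

end Cfsg.Agent.Spor.RuStandard
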