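/-
Every involution of the Sylow 2-subgroup is conjugate in it to a listed representative, and the representatives
outside the centre have reductions conjugate to that of the fixed central involution.
-/
import Cfsg.Agent.Lib.Spor.RuStandard.Collect
import Cfsg.Agent.Lib.Spor.RuOutMain

set_option autoImplicit false
set_option maxRecDepth 100000

namespace Cfsg.Agent.Spor.RuStandard

open Cfsg.Spor Cfsg.Agent.Spor.RuMult Cfsg.Agent.Spor.RuAut Cfsg.Agent.Spor.RuCert
open Cfsg.Agent.Lie.CentralRewrite (lval lval_cons lval_append)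

/-- the square of a prefix shows that no involution continues it -/
def kill (j : ℕ) (p : List ℕ) : Bool :=
  match nf (p ++ p) with
  | [] => false
  | h :: r => incr (h :: r) && inT (h :: r) && Nat.ble h j

/-- the prefixes below the n-th letter which may begin an involution -/
def stage : ℕ → List (List ℕ)
  | 0 => [[]]
  | j + 1 => (stage j).flatMap fun p => [p, p ++ [j]].filter fun q => !kill j q

/-- the shape of a row of the class table -/
def rowOK (k : ℕ) : Bool :=
  let e := classTab.getD k ([], 0, 0)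
  inT e.1 && bif Nat.beq e.2.2 99 then
    ([[13], [14], [13, 14]].any fun r => e.1 == r) || rootCert.any fun c => e.1 == c.1
  else Nat.blt e.2.1 k && Nat.blt e.2.2 15 &&
    same (e.2.2 :: e.1) ((classTab.getD e.2.1 ([], 0, 0)).1 ++ [e.2.2])

theorem scan_ok : (stage 15).all (fun w => w == [] || classTab.any fun e => w == e.1) = true := by decide +kernel

theorem rows_ok : (List.range classTab.length).all rowOK = true := by decide +kernel

/-- a certificate of one representative -/
noncomputable def certOK (c : List ℕ × List ℕ × List ℕ × ℕ) : Bool :=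
  inT c.1 && c.2.1.all (fun i => Nat.blt i 2) && c.2.2.1.all (fun i => Nat.blt i 2) && Nat.beq (c.2.2.2 % 2) 1 &&
    Nat.beq (mulB (RuOut.evW genN c.2.1) (RuOut.evW genN c.2.2.1) % 2 ^ 784) idB &&
    Nat.beq (powB (mulB (twoData.wordB c.1)
      (mulB (RuOut.evW genN c.2.1) (mulB (twoData.wordB [13]) (RuOut.evW genN c.2.2.1)))) c.2.2.2 % 2 ^ 784) idB

theorem certs_ok : rootCert.all certOK = true := by decide +kernel

theorem letters_len : Nat.ble 15 twoData.letters.length = true := by decide +kernel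

variable {g : ℕ → fourRu}

theorem matB_low (A : ℕ) : matB (A % 2 ^ 784) = matB A := by
  funext i j
  simp only [matB, Matrix.of_apply, Nat.testBit_mod_two_pow]
  rw [decide_eq_true (show 28 * (j : ℕ) + i < 784 by omega), Bool.true_and]

variable (hg : Acts twoData g)
include hg

theorem word_conj {k : ℕ} : ∀ p : List ℕ, (∀ i ∈ p, i < 15) → ∀ t ∈ tl g k,
    (lval g p)⁻¹ * t * lval g p ∈ tl g k
  | [], _, t, ht => by simpa [lval] using ht
  | i :: p, h, t, ht => by
    rw [lval_cons, show (g i * lval g p)⁻¹ * t * (g i * lval g p) = (lval g p)⁻¹ * ((g i)⁻¹ * t * g i) * lval g p by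
      group]
    exact word_conj p (fun x hx => h x (List.mem_cons_of_mem _ hx)) _ (tl_conj hg (h i List.mem_cons_self) t ht)

theorem not_killed {j : ℕ} (hj : j < 15) {p q : List ℕ} (hp : ∀ i ∈ p, i < 15)
    (hq : ∀ i ∈ q, j + 1 ≤ i ∧ i < 15) (h : lval g (p ++ q) * lval g (p ++ q) = 1) : kill j p = false := by
  by_contra hk
  rw [Bool.not_eq_false, kill] at hk
  cases hc : nf (p ++ p) with
  | nil => simp [hc] at hk
  | cons a r =>
    simp only [hc, Bool.and_eq_true, Nat.ble_eq] at hk
    obtain ⟨⟨hinc, hin⟩, haj⟩ := hk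
    simp only [inT, List.all_eq_true, Nat.blt_eq] at hin
    have ha := hin a List.mem_cons_self
    refine tl_strict hg ha ?_
    have hv := nf_val hg (p ++ p)
    rw [hc, lval_cons, lval_append] at hv
    have hQ : lval g q ∈ tl g (j + 1) := mem_tl hq
    have hsq : lval g p * lval g p ∈ tl g (a + 1) := by
      refine tl_anti (by omega : a + 1 ≤ j + 1) ?_
      rw [lval_append] at h
      have e : lval g p * lval g p * (((lval g p)⁻¹ * lval g q * lval g p) * lval g q) = 1 := by
        rw [← h]; group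
      rw [mul_eq_one_iff_eq_inv.1 e]
      exact inv_mem (mul_mem (word_conj hg p hp _ hQ) hQ)
    have hr : lval g r ∈ tl g (a + 1) := mem_tl fun i hi =>
      ⟨(List.pairwise_cons.1 (incr_inj _ hinc)).1 i hi, hin i (List.mem_cons_of_mem _ hi)⟩
    rw [eq_mul_inv_of_mul_eq hv]
    exact mul_mem hsq (inv_mem hr)

theorem stage_mem : ∀ (n : ℕ), n ≤ 15 → ∀ p q : List ℕ, (p ++ q).Pairwise (· < ·) → (∀ i ∈ p, i < n) →
    (∀ i ∈ q, n ≤ i ∧ i < 15) → lval g (p ++ q) * lval g (p ++ q) = 1 → p ∈ stage n
  | 0, _, p, _, _, hp, _, _ => by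
    cases p with
    | nil => simp [stage]
    | cons i p => exact absurd (hp i List.mem_cons_self) (Nat.not_lt_zero _)
  | n + 1, hn, p, q, hw, hp, hq, h => by
    have hkill := not_killed hg (by omega : n < 15) (fun i hi => by have := hp i hi; omega) hq h
    rw [stage, List.mem_flatMap]
    rcases List.eq_nil_or_concat p with rfl | ⟨p', i, hpi⟩
    · exact ⟨[], stage_mem n (by omega) [] q hw (by simp) (fun i hi => ⟨by have := (hq i hi).1; omega, (hq i hi).2⟩) h,
        by simp [hkill]⟩
    · rw [List.concat_eq_append] at hpi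
      subst hpi
      have hpw := (List.pairwise_append.1 hw).1
      have hlt : ∀ x ∈ p', x < i := fun x hx => (List.pairwise_append.1 hpw).2.2 x hx i (by simp)
      by_cases hin : i = n
      · subst hin
        refine ⟨p', stage_mem i (by omega) p' (i :: q) (by simpa using hw) hlt ?_ (by simpa using h), by
          simp [hkill]⟩
        intro x hx
        rcases List.mem_cons.1 hx with rfl | hx
        · omega
        · exact ⟨by have := (hq x hx).1; omega, (hq x hx).2⟩
      · have hi : i < n := by have := hp i (by simp); omega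
        refine ⟨p' ++ [i], stage_mem n (by omega) _ q hw ?_ (fun x hx => ⟨by have := (hq x hx).1; omega, (hq x hx).2⟩) h,
          by simp [hkill]⟩
        intro x hx
        rcases List.mem_append.1 hx with hx | hx
        · have := hlt x hx; omega
        · simp only [List.mem_singleton] at hx; omega

/-- the representatives -/
theorem row_root : ∀ k < classTab.length, ∃ r : List ℕ, ∃ s ∈ tl g 0,
    s * lval g (classTab.getD k ([], 0, 0)).1 * s⁻¹ = lval g r ∧
    (r = [13] ∨ r = [14] ∨ r = [13, 14] ∨ ∃ c ∈ rootCert, r = c.1) := by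
  intro k
  induction k using Nat.strong_induction_on with
  | _ k ih =>
    intro hk
    have h := List.all_eq_true.1 rows_ok k (List.mem_range.2 hk)
    simp only [rowOK, Bool.and_eq_true] at h
    obtain ⟨-, h⟩ := h
    cases hb : Nat.beq (classTab.getD k ([], 0, 0)).2.2 99 <;> rw [hb] at h
    · simp only [cond_false, Bool.and_eq_true, Nat.blt_eq] at h
      obtain ⟨⟨hpar, hi⟩, hs⟩ := h
      obtain ⟨r, s, hs', e, hr⟩ := ih _ hpar (hpar.trans hk)
      have hi' : g (classTab.getD k ([], 0, 0)).2.2 ∈ tl g 0 :=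
        Subgroup.subset_closure ⟨_, ⟨Nat.zero_le _, hi⟩, rfl⟩
      refine ⟨r, s * g (classTab.getD k ([], 0, 0)).2.2, mul_mem hs' hi', ?_, hr⟩
      have e2 := same_val hg hs
      rw [lval_cons, lval_append, show lval g [(classTab.getD k ([], 0, 0)).2.2] =
        g (classTab.getD k ([], 0, 0)).2.2 by simp [lval]] at e2
      rw [← e, show s * g (classTab.getD k ([], 0, 0)).2.2 * lval g (classTab.getD k ([], 0, 0)).1 *
        (s * g (classTab.getD k ([], 0, 0)).2.2)⁻¹ = s * (g (classTab.getD k ([], 0, 0)).2.2 *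
          lval g (classTab.getD k ([], 0, 0)).1) * (g (classTab.getD k ([], 0, 0)).2.2)⁻¹ * s⁻¹ by group, e2]
      group
    · refine ⟨_, 1, one_mem _, by rw [one_mul, inv_one, mul_one], ?_⟩
      simp only [cond_true, Bool.or_eq_true, List.any_eq_true, List.mem_cons, List.not_mem_nil, or_false,
        beq_iff_eq] at h
      rcases h with ⟨r, hr, e⟩ | ⟨c, hc, e⟩
      · rw [e]; tauto
      · exact Or.inr (Or.inr (Or.inr ⟨c, hc, e⟩))

/-- every involution of the group is conjugate in it to a representative -/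
theorem invol_root {t : fourRu} (ht : t ∈ tl g 0) (h1 : t ≠ 1) (h2 : t * t = 1) :
    ∃ r : List ℕ, ∃ s ∈ tl g 0, s * t * s⁻¹ = lval g r ∧
      (r = [13] ∨ r = [14] ∨ r = [13, 14] ∨ ∃ c ∈ rootCert, r = c.1) := by
  obtain ⟨w, hw, hlt, rfl⟩ := exists_word hg 15 0 rfl t ht
  have hm := stage_mem hg 15 le_rfl w [] (by simpa using hw) (fun i hi => (hlt i hi).2) (by simp) (by simpa using h2)
  have h := List.all_eq_true.1 scan_ok w hm
  rw [Bool.or_eq_true, beq_iff_eq, List.any_eq_true] at h
  rcases h with rfl | ⟨e, he, heq⟩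
  · exact absurd rfl h1
  · obtain ⟨k, hk, hk'⟩ := List.mem_iff_getElem.1 he
    obtain ⟨r, s, hs, hc, hr⟩ := row_root hg k hk
    refine ⟨r, s, hs, ?_, hr⟩
    rw [List.getD_eq_getElem _ _ hk, hk', ← beq_iff_eq.1 heq] at hc
    exact hc

/-- the reduction of a representative and a conjugate of that of the central involution generate an odd dihedral
group -/
theorem cert_odd {c : List ℕ × List ℕ × List ℕ × ℕ} (hc : c ∈ rootCert) :
    ∃ (h : RuCert.Gru) (m : ℕ), inT c.1 = true ∧
      (ψ (lval g c.1) * (h * ψ (g 13) * h⁻¹)) ^ (2 * m + 1) = 1 := by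
  have H := List.all_eq_true.1 certs_ok c hc
  simp only [certOK, Bool.and_eq_true, List.all_eq_true, Nat.blt_eq] at H
  obtain ⟨⟨⟨⟨⟨hin, hh⟩, hi⟩, hodd⟩, hinv⟩, hpow⟩ := H
  obtain ⟨a, ha⟩ := RuOut.word_ex c.2.1 hh
  obtain ⟨b, hb⟩ := RuOut.word_ex c.2.2.1 hi
  have hab : b = a⁻¹ := by
    refine (inv_eq_of_mul_eq_one_right (RuOut.mat_inj ?_)).symm
    rw [RuOut.mat_mul, ha, hb, ← mulB_mat, ← matB_low, Nat.eq_of_beq_eq_true hinv, matB_id]
    rfl
  refine ⟨a, c.2.2.2 / 2, hin, ?_⟩
  have hm : 2 * (c.2.2.2 / 2) + 1 = c.2.2.2 := by have := Nat.eq_of_beq_eq_true hodd; omega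
  rw [hm, ← hab]
  refine RuOut.mat_inj ?_
  have hlen : 15 ≤ twoData.letters.length := Nat.le_of_ble_eq_true letters_len
  have hmat : ∀ w : List ℕ, (∀ i ∈ w, i < 15) → RuOut.mat (ψ (lval g w)) = matB (twoData.wordB w) :=
    fun w hw => word_mat hg w fun i hi => lt_of_lt_of_le (hw i hi) hlen
  have h13 := hmat [13] (by simp)
  rw [show lval g [13] = g 13 by simp [lval]] at h13
  simp only [inT, List.all_eq_true, Nat.blt_eq] at hin
  rw [RuOut.mat_pow, RuOut.mat_mul, RuOut.mat_mul, RuOut.mat_mul, ha, hb, hmat _ hin, h13, mul_assoc,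
    ← mulB_mat, ← mulB_mat, ← mulB_mat, ← matB_powB, ← matB_low, Nat.eq_of_beq_eq_true hpow, matB_id]
  rfl

end Cfsg.Agent.Spor.RuStandard
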