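/-
The double cover of the Rudvalis group: its centre, its automorphisms, its recognition and a Sylow 2-subgroup.
-/
import Cfsg.Agent.Lib.Spor.RuStandard.Collect
import Cfsg.Agent.Lib.Spor.DoubleCoverStandard.Local
import Cfsg.Agent.Lib.Spor.RuOutMain
import Mathlib.Algebra.Group.Shrink

set_option autoImplicit false
set_option maxRecDepth 100000

universe u

namespace Cfsg.Agent.Spor.RuStandard

open Cfsg Cfsg.Spor Cfsg.Agent.Spor.RuMult Cfsg.Agent.Spor.RuAut Cfsg.Agent.Spor.RuCert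
open Cfsg.Agent.Spor.DoubleCoverStandard
open Cfsg.Agent.Lie.CentralRewrite (lval)

/-- the central involution -/
noncomputable def zEl : ↥dcov := ⟨iF ^ 2, comm_le neg_comm⟩

theorem dψ_ker_eq : dψ.ker = Subgroup.center ↥dcov := by
  refine le_antisymm dψ_stem.2.1 fun x hx => MonoidHom.mem_ker.2 ?_
  have h : dψ x ∈ Subgroup.center RuCert.Gru := Subgroup.mem_center_iff.2 fun y => by
    obtain ⟨y', rfl⟩ := dψ_surjective y
    rw [← map_mul, ← map_mul, Subgroup.mem_center_iff.1 hx]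
  rw [RuCert.center_bot] at h
  exact Subgroup.mem_bot.1 h

theorem zEl_centre : Centre zEl where
  ne := fun h => neg_ne (congrArg Subtype.val h)
  sq := Subtype.ext (by
    show iF ^ 2 * iF ^ 2 = 1
    rw [← pow_add]
    exact iF_four)
  mem := dψ_ker_eq ▸ MonoidHom.mem_ker.2 (neg_psi 2)
  two := fun a ha => by
    rw [← dψ_ker_eq, MonoidHom.mem_ker] at ha
    exact (dcov_cover _ a.2 ha).imp (fun h => Subtype.ext h) (fun h => Subtype.ext h)

theorem dcov_aut_inner (φ : ↥dcov ≃* ↥dcov) : ∃ a : ↥dcov, ∀ x, φ x = a * x * a⁻¹ := by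
  refine aut_inner_of (Group.isPerfect_def.2 dcov_perfect) dψ dψ_surjective dψ_ker_eq (fun θ => ?_) φ
  have hsub : Subsingleton (Cfsg.Out RuCert.Gru) := (Nat.card_eq_one_iff_unique.1 RuOut.card_out).1
  have hθ : (θ : MulAut RuCert.Gru) ∈ Cfsg.Inn RuCert.Gru :=
    (QuotientGroup.eq_one_iff (θ : MulAut RuCert.Gru)).1 (Subsingleton.elim (α := Cfsg.Out RuCert.Gru) _ _)
  obtain ⟨q, hq⟩ := hθ
  exact ⟨q, fun x => by rw [← hq]; rfl⟩

/-- recognition of the double cover -/
theorem exists_equiv_small {X : Type} [Group X] [Finite X] (hX : Group.IsPerfect X)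
    (hc : Nat.card ↥(Subgroup.center X) = 2) (hRu : Cfsg.Spor.IsoRu (X ⧸ Subgroup.center X)) :
    Nonempty (X ≃* ↥dcov) := by
  obtain ⟨e⟩ := hRu
  let ξ : X →* RuCert.Gru := (e.trans ruEquiv).toMonoidHom.comp (QuotientGroup.mk' _)
  have hξ : Function.Surjective ξ := (e.trans ruEquiv).surjective.comp (QuotientGroup.mk'_surjective _)
  have hker : ξ.ker = Subgroup.center X := by
    ext x
    simp [ξ, MonoidHom.mem_ker]
  obtain ⟨E, _, _, ψ', φ', hE, hψ', hcomm, hcE⟩ := Solv.exists_common_cover (Group.isPerfect_def.2 commutator_gru)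
    (Group.isPerfect_def.2 dcov_perfect) dψ dψ_stem.1 dψ_stem.2.1 ξ hξ hker.le
  have hψs : Cfsg.IsStemExtension ψ' := ⟨hψ', fun x hx => hcE (by
    rw [MonoidHom.mem_ker] at hx
    rw [MonoidHom.mem_ker, MonoidHom.comp_apply, hx, map_one]), by
    rw [Group.IsPerfect.commutator_eq_top]; exact le_top⟩
  have hinj : Function.Injective ψ' := (MonoidHom.ker_eq_bot_iff ψ').1 (stem_trivial hψs)
  let eE : E ≃* ↥dcov := MulEquiv.ofBijective ψ' ⟨hinj, hψ'⟩
  let φ : ↥dcov →* X := φ'.comp eE.symm.toMonoidHom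
  have hφ : ∀ d, ξ (φ d) = dψ d := fun d => by
    have h := DFunLike.congr_fun hcomm (eE.symm d)
    simp only [MonoidHom.comp_apply] at h
    rw [show φ d = φ' (eE.symm d) from rfl, ← h]
    exact congrArg dψ (eE.apply_symm_apply d)
  have htop : φ.range ⊔ Subgroup.center X = ⊤ := by
    refine eq_top_iff.2 fun x _ => ?_
    obtain ⟨d, hd⟩ := dψ_surjective (ξ x)
    rw [show x = φ d * ((φ d)⁻¹ * x) by group]
    refine Subgroup.mul_mem_sup ⟨d, rfl⟩ ?_
    rw [← hker, MonoidHom.mem_ker, map_mul, map_inv, hφ, hd, inv_mul_cancel]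
  have hsurj : Function.Surjective φ := by
    rw [← MonoidHom.range_eq_top, ← top_le_iff, ← hX.commutator_eq_top, commutator_def, Subgroup.commutator_le]
    intro a _ b _
    have split : ∀ x : X, ∃ d, ∃ c ∈ Subgroup.center X, x = φ d * c := by
      intro x
      obtain ⟨d, hd⟩ := dψ_surjective (ξ x)
      refine ⟨d, (φ d)⁻¹ * x, ?_, by group⟩
      rw [← hker, MonoidHom.mem_ker, map_mul, map_inv, hφ, hd, inv_mul_cancel]
    obtain ⟨c, z, hz, rfl⟩ := split a
    obtain ⟨d, w, hw, rfl⟩ := split b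
    refine ⟨c * d * c⁻¹ * d⁻¹, ?_⟩
    have h1 := Subgroup.mem_center_iff.1 hz
    have h2 := Subgroup.mem_center_iff.1 hw
    simp only [map_mul, map_inv, commutatorElement_def, mul_inv_rev]
    symm
    calc φ c * z * (φ d * w) * (z⁻¹ * (φ c)⁻¹) * (w⁻¹ * (φ d)⁻¹)
        = φ c * (z * (φ d * w)) * z⁻¹ * (φ c)⁻¹ * (w⁻¹ * (φ d)⁻¹) := by group
      _ = φ c * ((φ d * w) * z) * z⁻¹ * (φ c)⁻¹ * (w⁻¹ * (φ d)⁻¹) := by rw [h1]
      _ = φ c * φ d * (w * (φ c)⁻¹) * w⁻¹ * (φ d)⁻¹ := by group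
      _ = φ c * φ d * ((φ c)⁻¹ * w) * w⁻¹ * (φ d)⁻¹ := by rw [h2]
      _ = _ := by group
  have hcard : Nat.card X = Nat.card ↥dcov := by
    have h1 := Subgroup.card_mul_index ξ.ker
    rw [Subgroup.index_ker, MonoidHom.range_eq_top.2 hξ, Subgroup.card_top, hker, hc, card_G] at h1
    rw [← h1, dcov_card]
  exact ⟨(MulEquiv.ofBijective φ (hsurj.bijective_of_nat_card_le hcard.ge)).symm⟩

theorem exists_equiv {X : Type u} [Group X] [Finite X] (hX : Group.IsPerfect X)
    (hc : Nat.card ↥(Subgroup.center X) = 2) (hRu : Cfsg.Spor.IsoRu (X ⧸ Subgroup.center X)) :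
    Nonempty (X ≃* ↥dcov) := by
  haveI : Small.{0} X := ⟨⟨Fin (Nat.card X), ⟨Finite.equivFin X⟩⟩⟩
  haveI : Finite (Shrink.{0} X) := Finite.of_equiv X (equivShrink X)
  let e : Shrink.{0} X ≃* X := Shrink.mulEquiv
  obtain ⟨f⟩ := hRu
  have hmap : (Subgroup.center X).map e.symm.toMonoidHom = Subgroup.center (Shrink.{0} X) := by
    ext x
    simp only [Subgroup.mem_map, MulEquiv.coe_toMonoidHom, Subgroup.mem_center_iff]
    constructor
    · rintro ⟨y, hy, rfl⟩ g
      obtain ⟨g', rfl⟩ := e.symm.surjective g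
      rw [← map_mul, ← map_mul, hy g']
    · intro hx
      exact ⟨e x, fun g => e.symm.injective (by rw [map_mul, map_mul, e.symm_apply_apply, hx]), e.symm_apply_apply x⟩
  obtain ⟨k⟩ := exists_equiv_small (X := Shrink.{0} X)
    (Group.IsPerfect.ofSurjective (f := e.symm.toMonoidHom) e.symm.surjective)
    (by rw [← hc, ← hmap]; exact Nat.card_congr (e.symm.subgroupMap (Subgroup.center X)).toEquiv.symm)
    ⟨(QuotientGroup.congr (Subgroup.center X) _ e.symm hmap).symm.trans f⟩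
  exact ⟨e.symm.trans k⟩

variable {g : ℕ → fourRu} (hg : Acts twoData g)
include hg

theorem g_mem {j : ℕ} (hj : j < 15) : g j ∈ dcov := by
  have h14 : g 14 ∈ dcov := (top_letter hg).symm ▸ comm_le neg_comm
  by_cases h : j = 14
  · exact h ▸ h14
  · rw [dcov_char]
    exact parity_kill _ g (letters_lt two_valid) (rels_hold two_dvalid hg two_rels)
      (fun _ => (dcov_char _).1 h14) (List.all_eq_true.1 two_parity j (List.mem_range.2 (by omega)))

theorem tl_le : tl g 0 ≤ dcov :=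
  (Subgroup.closure_le _).2 (by rintro _ ⟨j, hj, rfl⟩; exact g_mem hg hj.2)

theorem sylow_two : IsPGroup 2 ↥((tl g 0).subgroupOf dcov) ∧ ¬ 2 ∣ ((tl g 0).subgroupOf dcov).index := by
  have hc : Nat.card ↥((tl g 0).subgroupOf dcov) = 2 ^ 15 := by
    rw [Nat.card_congr (Subgroup.subgroupOfEquivOfLe (tl_le hg)).toEquiv]
    exact card_two_sylow hg
  refine ⟨IsPGroup.of_card hc, ?_⟩
  have h := Subgroup.card_mul_index ((tl g 0).subgroupOf dcov)
  rw [hc, dcov_card] at h
  omega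

end Cfsg.Agent.Spor.RuStandard
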