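/-
An iterated commutator spanning the last term of a central series of the Sylow 2-subgroup.
-/
import Cfsg.Agent.Lib.Spor.RuStandard.Collect

set_option autoImplicit false
set_option maxRecDepth 100000

namespace Cfsg.Agent.Spor.RuStandard

open Cfsg.Spor Cfsg.Agent.Spor.RuMult Cfsg.Agent.Spor.RuAut
open Cfsg.Agent.Lie.CentralRewrite (lval lval_cons lval_append)

/-- the commutator -/
def cm {E : Type*} [Group E] (a b : E) : E := a⁻¹ * b⁻¹ * a * b

/-- the word of a product of generators of the series -/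
def serWord (ds : List ℕ) : List ℕ := ds.flatMap fun j => serBasis.getD j []

theorem top_ok : (List.range 15).all (fun a => (List.range 15).all fun i =>
    ((serTop.getD a []).getD i []).all (fun j => Nat.blt j 12) &&
      same [a, i] ([i, a] ++ serWord ((serTop.getD a []).getD i []))) = true := by decide +kernel

theorem step_ok : (List.range 12).all (fun j => (List.range 15).all fun i =>
    let ds := (serStep.getD j []).getD i []
    (List.range 7).all (fun k => Nat.blt j (serOff.getD k 0) ||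
      ds.all (fun q => Nat.ble (serOff.getD (k + 1) 0) q && Nat.blt q 12)) &&
    same (serBasis.getD j [] ++ [i]) (i :: (serBasis.getD j [] ++ serWord ds))) = true := by decide +kernel

theorem ser_shape : serBasis.all inT = true ∧ Nat.beq (serOff.getD 0 0) 0 = true ∧
    Nat.beq (serOff.getD 6 0) 11 = true ∧ Nat.beq (serOff.getD 7 0) 12 = true ∧
    (List.range 7).all (fun k => Nat.ble (serOff.getD k 0) (serOff.getD (k + 1) 0)) = true ∧
    (serBasis.getD 11 [] == [13, 14]) = true ∧ same [13, 14, 13, 14] [] = true := by decide +kernel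

theorem nest_ok : (List.range 8).all (fun k => inT (nestWords.getD k []) && Nat.blt (nestLetters.getD k 0) 15) = true ∧
    (List.range 7).all (fun k => same (nestWords.getD k [] ++ [nestLetters.getD (k + 1) 0])
      (nestLetters.getD (k + 1) 0 :: (nestWords.getD k [] ++ nestWords.getD (k + 1) []))) = true ∧
    (nestWords.getD 7 [] == [13, 14]) = true := by decide +kernel

variable {g : ℕ → fourRu}

theorem inT_mem {w : List ℕ} (h : inT w = true) : lval g w ∈ tl g 0 := by
  simp only [inT, List.all_eq_true, Nat.blt_eq] at h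
  exact mem_tl fun i hi => ⟨Nat.zero_le _, h i hi⟩

/-- the terms of the series -/
def ser (g : ℕ → fourRu) (k : ℕ) : Subgroup fourRu :=
  Subgroup.closure ((fun j => lval g (serBasis.getD j [])) '' Set.Ico (serOff.getD k 0) 12)

theorem basis_mem (j : ℕ) : lval g (serBasis.getD j []) ∈ tl g 0 := by
  by_cases hj : j < serBasis.length
  · rw [List.getD_eq_getElem _ _ hj]
    exact inT_mem (List.all_eq_true.1 ser_shape.1 _ (List.getElem_mem _))
  · rw [List.getD_eq_default _ _ (by omega)]; exact one_mem _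

theorem ser_le (k : ℕ) : ser g k ≤ tl g 0 := (Subgroup.closure_le _).2 (by rintro _ ⟨j, -, rfl⟩; exact basis_mem j)

theorem serWord_mem {k : ℕ} : ∀ ds : List ℕ, (∀ q ∈ ds, serOff.getD k 0 ≤ q ∧ q < 12) →
    lval g (serWord ds) ∈ ser g k
  | [], _ => one_mem _
  | q :: ds, h => by
    rw [serWord, List.flatMap_cons, lval_append]
    exact mul_mem (Subgroup.subset_closure ⟨q, h q List.mem_cons_self, rfl⟩)
      (serWord_mem ds fun x hx => h x (List.mem_cons_of_mem _ hx))

theorem ser_mono {k : ℕ} (hk : k < 7) : ser g (k + 1) ≤ ser g k := by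
  refine Subgroup.closure_mono (Set.image_mono fun j hj => ⟨?_, hj.2⟩)
  exact (Nat.le_of_ble_eq_true (List.all_eq_true.1 ser_shape.2.2.2.2.1 k (List.mem_range.2 hk))).trans hj.1

variable (hg : Acts twoData g)
include hg

theorem cm_val {u : List ℕ} {i : ℕ} {d : List ℕ} (h : same (u ++ [i]) (i :: (u ++ d)) = true) :
    cm (lval g u) (g i) = lval g d := by
  have e := same_val hg h
  simp only [lval_append, lval_cons, show lval g [] = 1 from rfl, mul_one] at e
  rw [cm, show (lval g u)⁻¹ * (g i)⁻¹ * lval g u * g i = (lval g u)⁻¹ * (g i)⁻¹ * (lval g u * g i) by group, e]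
  group

theorem cm_basis {k j i : ℕ} (hk : k < 7) (hj : serOff.getD k 0 ≤ j) (hj' : j < 12) (hi : i < 15) :
    cm (lval g (serBasis.getD j [])) (g i) ∈ ser g (k + 1) := by
  have h := List.all_eq_true.1 (List.all_eq_true.1 step_ok j (List.mem_range.2 hj')) i (List.mem_range.2 hi)
  simp only [Bool.and_eq_true, List.all_eq_true, Bool.or_eq_true, Nat.blt_eq, Nat.ble_eq] at h
  rw [cm_val hg h.2]
  refine serWord_mem _ fun q hq => ?_
  rcases h.1 k (List.mem_range.2 hk) with e | e
  · omega
  · exact e q hq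

theorem ser_bot : ser g 7 = ⊥ := by
  rw [ser, Nat.eq_of_beq_eq_true ser_shape.2.2.2.1]
  simp

theorem ser_conj_gen {k i : ℕ} (hk : k ≤ 7) (hi : i < 15) : ∀ a ∈ ser g k, (g i)⁻¹ * a * g i ∈ ser g k := by
  intro a ha
  induction ha using Subgroup.closure_induction with
  | mem y hy =>
    obtain ⟨j, ⟨hj, hj'⟩, rfl⟩ := hy
    rcases hk.lt_or_eq with hk | rfl
    · have h := ser_mono hk (cm_basis hg hk hj hj' hi)
      have hb : lval g (serBasis.getD j []) ∈ ser g k := Subgroup.subset_closure ⟨j, ⟨hj, hj'⟩, rfl⟩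
      have e := mul_mem hb h
      rw [cm] at e
      convert e using 1
      group
    · rw [Nat.eq_of_beq_eq_true ser_shape.2.2.2.1] at hj
      omega
  | one => simp
  | mul a b _ _ ha hb =>
    rw [show (g i)⁻¹ * (a * b) * g i = ((g i)⁻¹ * a * g i) * ((g i)⁻¹ * b * g i) by group]
    exact mul_mem ha hb
  | inv a _ ha =>
    rw [show (g i)⁻¹ * a⁻¹ * g i = ((g i)⁻¹ * a * g i)⁻¹ by group]
    exact inv_mem ha

omit hg in
/-- commutators of generated groups from those of generators -/
theorem cm_closure {E : Type*} [Group E] [Finite E] {S X : Set E} {N : Subgroup E}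
    (hnorm : ∀ x ∈ X, ∀ a ∈ N, x⁻¹ * a * x ∈ N) (hS : S ⊆ Subgroup.closure X)
    (h : ∀ s ∈ S, ∀ x ∈ X, cm s x ∈ N) {a t : E} (ha : a ∈ Subgroup.closure S) (ht : t ∈ Subgroup.closure X) :
    cm a t ∈ N := by
  rw [← Subgroup.mem_toSubmonoid, Subgroup.closure_toSubmonoid_of_finite] at ha
  have hn : ∀ t ∈ Submonoid.closure X, ∀ a ∈ N, t⁻¹ * a * t ∈ N := by
    intro t ht
    induction ht using Submonoid.closure_induction with
    | mem x hx => exact hnorm x hx
    | one => simp
    | mul x y _ _ h1 h2 =>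
      intro a ha
      rw [show (x * y)⁻¹ * a * (x * y) = y⁻¹ * (x⁻¹ * a * x) * y by group]
      exact h2 _ (h1 a ha)
  rw [← Subgroup.mem_toSubmonoid, Subgroup.closure_toSubmonoid_of_finite] at ht
  have hgen : ∀ s ∈ S, ∀ t ∈ Submonoid.closure X, cm s t ∈ N := by
    intro s hs t ht
    induction ht using Submonoid.closure_induction with
    | mem x hx => exact h s hs x hx
    | one => simp [cm]
    | mul x y _ hy h1 h2 =>
      rw [show cm s (x * y) = cm s y * (y⁻¹ * cm s x * y) by simp only [cm]; group]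
      exact mul_mem h2 (hn y hy _ h1)
  revert t
  induction ha using Submonoid.closure_induction with
  | mem s hs => exact fun ht => hgen s hs _ ht
  | one => intro t _; simp [cm]
  | mul x y hx hy h1 h2 =>
    intro t ht
    rw [show cm (x * y) t = y⁻¹ * cm x t * y * cm y t by simp only [cm]; group]
    refine mul_mem (hn y ?_ _ (h1 ht)) (h2 ht)
    have : y ∈ Subgroup.closure X := by
      have h' : Submonoid.closure S ≤ (Subgroup.closure X).toSubmonoid := Submonoid.closure_le.2 hS
      exact h' hy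
    rwa [← Subgroup.mem_toSubmonoid, Subgroup.closure_toSubmonoid_of_finite] at this

theorem cm_top {a t : fourRu} (ha : a ∈ tl g 0) (ht : t ∈ tl g 0) : cm a t ∈ ser g 0 := by
  refine cm_closure ?_ (fun _ h => Subgroup.subset_closure h) ?_ ha ht
  · rintro _ ⟨i, hi, rfl⟩
    exact ser_conj_gen hg (by norm_num) hi.2
  · rintro _ ⟨a, ha, rfl⟩ _ ⟨i, hi, rfl⟩
    have h := List.all_eq_true.1 (List.all_eq_true.1 top_ok a (List.mem_range.2 ha.2)) i (List.mem_range.2 hi.2)
    simp only [Bool.and_eq_true, List.all_eq_true, Nat.blt_eq] at h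
    have e := cm_val hg (u := [a]) (i := i) (d := serWord ((serTop.getD a []).getD i [])) (by
      simpa using h.2)
    rw [show lval g [a] = g a by simp [lval]] at e
    rw [e]
    exact serWord_mem _ fun q hq => ⟨by rw [Nat.eq_of_beq_eq_true ser_shape.2.1]; omega, h.1 q hq⟩

theorem cm_step {k : ℕ} (hk : k < 7) {a t : fourRu} (ha : a ∈ ser g k) (ht : t ∈ tl g 0) :
    cm a t ∈ ser g (k + 1) := by
  refine cm_closure ?_ ?_ ?_ ha ht
  · rintro _ ⟨i, hi, rfl⟩
    exact ser_conj_gen hg (by omega) hi.2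
  · rintro _ ⟨j, -, rfl⟩
    exact basis_mem j
  · rintro _ ⟨j, ⟨hj, hj'⟩, rfl⟩ _ ⟨i, hi, rfl⟩
    exact cm_basis hg hk hj hj' hi.2

theorem ser_last {a : fourRu} (ha : a ∈ ser g 6) : a = 1 ∨ a = lval g [13, 14] := by
  rw [ser, Nat.eq_of_beq_eq_true ser_shape.2.2.1, show Set.Ico 11 12 = {11} from by ext; simp; omega,
    Set.image_singleton, beq_iff_eq.1 ser_shape.2.2.2.2.2.1, ← Subgroup.zpowers_eq_closure] at ha
  obtain ⟨i, rfl⟩ := Subgroup.mem_zpowers_iff.1 ha
  have h2 : lval g [13, 14] ^ (2 : ℤ) = 1 := by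
    rw [zpow_two, ← lval_append]
    exact same_val hg ser_shape.2.2.2.2.2.2
  rcases Int.even_or_odd' i with ⟨m, rfl | rfl⟩
  · exact Or.inl (by rw [zpow_mul, h2, one_zpow])
  · exact Or.inr (by rw [zpow_add, zpow_mul, h2, one_zpow, one_mul, zpow_one])

/-- a fixed iterated commutator of length eight has the value of the last term -/
theorem exists_nest : ∃ l : ℕ → fourRu, ∃ e : ℕ → fourRu, (∀ k, k ≤ 7 → e k ∈ tl g 0 ∧ l k ∈ tl g 0) ∧
    (∀ k < 7, e (k + 1) = cm (e k) (l k)) ∧ e 7 = lval g [13, 14] := by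
  refine ⟨fun k => g (nestLetters.getD (k + 1) 0), fun k => lval g (nestWords.getD k []), fun k hk => ?_,
    fun k hk => ?_, ?_⟩
  · have h := List.all_eq_true.1 nest_ok.1 k (List.mem_range.2 (by omega))
    rw [Bool.and_eq_true] at h
    refine ⟨inT_mem h.1, ?_⟩
    by_cases hk' : k + 1 < 8
    · have h' := List.all_eq_true.1 nest_ok.1 (k + 1) (List.mem_range.2 hk')
      simp only [Bool.and_eq_true, Nat.blt_eq] at h'
      exact Subgroup.subset_closure ⟨_, ⟨Nat.zero_le _, h'.2⟩, rfl⟩
    · refine Subgroup.subset_closure ⟨_, ⟨Nat.zero_le _, ?_⟩, rfl⟩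
      rw [List.getD_eq_default _ _ (by simp [nestLetters]; omega)]
      norm_num
  · exact (cm_val hg (List.all_eq_true.1 nest_ok.2.1 k (List.mem_range.2 hk))).symm
  · exact congrArg (lval g) (beq_iff_eq.1 nest_ok.2.2)

/-- every iterated commutator of length eight lies in the last term -/
theorem nest_last {a t : ℕ → fourRu} (h0 : a 0 ∈ tl g 0) (ht : ∀ k < 7, t k ∈ tl g 0)
    (hs : ∀ k < 7, a (k + 1) = cm (a k) (t k)) : a 7 = 1 ∨ a 7 = lval g [13, 14] := by
  have key : ∀ k, k < 7 → a (k + 1) ∈ ser g k := by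
    intro k
    induction k with
    | zero => intro hk; rw [hs 0 hk]; exact cm_top hg h0 (ht 0 hk)
    | succ k ih => intro hk; rw [hs _ hk]; exact cm_step hg (by omega) (ih (by omega)) (ht _ hk)
  exact ser_last hg (key 6 (by norm_num))

end Cfsg.Agent.Spor.RuStandard
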