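/-
The central involution of a standard double cover of the Rudvalis group is isolated.
-/
import Cfsg.Agent.Lib.Spor.RuStandard.Cover
import Cfsg.Agent.Lib.Spor.RuStandard.Series
import Cfsg.Agent.Lib.Spor.RuStandard.Classes

set_option autoImplicit false
set_option maxRecDepth 100000

namespace Cfsg.Agent.Spor.RuStandard

open Cfsg Cfsg.Spor Cfsg.Agent.Spor.RuMult Cfsg.Agent.Spor.RuAut Cfsg.Agent.Spor.RuCert
open Cfsg.Agent.Spor.DoubleCoverStandard
open Cfsg.Agent.Lie.CentralRewrite (lval lval_cons lval_append)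

theorem point_ok : (List.range 15).all (fun i => same [13, i] [i, 13]) = true ∧ same [13, 13] [] = true ∧
    same [4, 6, 7, 4, 6, 7] [] = true ∧ same [4, 6, 7, 0] [0, 4, 6, 7, 13] = true ∧
    same [13, 4, 6, 7] [4, 6, 7, 13] = true := by decide +kernel

/-- involutions generating an odd dihedral group are conjugate -/
theorem conj_of_odd {G : Type*} [Group G] {a b : G} (ha : a * a = 1) (hb : b * b = 1) {m : ℕ}
    (h : (a * b) ^ (2 * m + 1) = 1) : ∃ k : G, k * a * k⁻¹ = b := by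
  have hinv : ∀ {x : G}, x * x = 1 → x⁻¹ = x := fun hx => inv_eq_of_mul_eq_one_right hx
  refine ⟨(a * b) ^ m, ?_⟩
  have e : a * ((a * b) ^ m)⁻¹ = (a * b) ^ m * a := by
    have h2 : SemiconjBy a ((a * b)⁻¹) (a * b) := by
      show a * (a * b)⁻¹ = a * b * a
      rw [mul_inv_rev, hinv ha, hinv hb, mul_assoc]
    have := (h2.pow_right m).eq
    rwa [inv_pow] at this
  rw [mul_assoc, e, ← mul_assoc, ← pow_add, ← two_mul]
  have h3 : (a * b) ^ (2 * m) = (a * b)⁻¹ := eq_inv_of_mul_eq_one_left (by rw [← pow_succ, h])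
  rw [h3, mul_inv_rev, hinv hb, mul_assoc, inv_mul_cancel, mul_one]

theorem comm_zEl (a : ↥dcov) : a * zEl = zEl * a := Subgroup.mem_center_iff.1 zEl_centre.mem a

theorem conj_mul_z {a b k : ↥dcov} (h : k * a * k⁻¹ = b) : k * (a * zEl) * k⁻¹ = b * zEl := by
  rw [← h, ← mul_assoc k, mul_assoc _ zEl, ← comm_zEl k⁻¹, ← mul_assoc]

variable {g : ℕ → fourRu} (hg : Acts twoData g)
include hg

/-- the fixed central involution of the Sylow subgroup -/
noncomputable def uEl : ↥dcov := ⟨g 13, g_mem hg (by norm_num)⟩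

theorem w_val : lval g [13, 14] = ((uEl hg * zEl : ↥dcov) : fourRu) := by
  simp only [lval_cons, show lval g [] = 1 from rfl, mul_one, top_letter hg]
  rfl

theorem uEl_sq : uEl hg * uEl hg = 1 := Subtype.ext (by
  have h := same_val hg point_ok.2.1
  show g 13 * g 13 = 1
  simpa [lval] using h)

theorem uEl_ne : uEl hg ≠ 1 ∧ uEl hg ≠ zEl := by
  have h13 := tl_strict hg (show 13 < 15 by norm_num)
  refine ⟨fun h => h13 ?_, fun h => h13 ?_⟩
  · rw [show g 13 = 1 from congrArg Subtype.val h]; exact one_mem _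
  · rw [show g 13 = iF ^ 2 from congrArg Subtype.val h, ← top_letter hg]
    exact Subgroup.subset_closure ⟨14, ⟨le_rfl, by norm_num⟩, rfl⟩

theorem uEl_central {t : fourRu} (ht : t ∈ tl g 0) : Commute t (g 13) := by
  have hle : tl g 0 ≤ Subgroup.centralizer ({g 13} : Set fourRu) := by
    refine (Subgroup.closure_le _).2 ?_
    rintro _ ⟨i, hi, rfl⟩
    rw [SetLike.mem_coe, Subgroup.mem_centralizer_singleton_iff]
    have h := same_val hg (List.all_eq_true.1 point_ok.1 i (List.mem_range.2 hi.2))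
    simpa [lval] using h.symm
  exact Subgroup.mem_centralizer_singleton_iff.1 (hle ht)

/-- every noncentral involution is conjugate to one of the two central involutions of the Sylow subgroup -/
theorem invol_two {y : ↥dcov} (h1 : y ≠ 1) (hn : y ≠ zEl) (h2 : y * y = 1) :
    (∃ k, k * y * k⁻¹ = uEl hg) ∨ ∃ k, k * y * k⁻¹ = uEl hg * zEl := by
  haveI : Fact (Nat.Prime 2) := ⟨Nat.prime_two⟩
  haveI : Finite ↥dcov := Nat.finite_of_card_ne_zero (by rw [dcov_card]; norm_num)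
  obtain ⟨hP, hodd⟩ := sylow_two hg
  let W : Sylow 2 ↥dcov := hP.toSylow hodd
  have hz : IsPGroup 2 ↥(Subgroup.zpowers y) := by
    rintro ⟨x, hx⟩
    obtain ⟨n, rfl⟩ := Subgroup.mem_zpowers_iff.1 hx
    refine ⟨1, Subtype.ext ?_⟩
    show (y ^ n) ^ (2 ^ 1) = 1
    rw [pow_one, sq, ← (Commute.refl y).mul_zpow, h2, one_zpow]
  obtain ⟨W', hW'⟩ := hz.exists_le_sylow
  obtain ⟨a, ha⟩ := MulAction.exists_smul_eq ↥dcov W' W
  have hmem : a * y * a⁻¹ ∈ (W : Subgroup ↥dcov) := by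
    rw [← ha, Sylow.coe_subgroup_smul, Subgroup.mem_pointwise_smul_iff_inv_smul_mem, MulAut.smul_def, ← map_inv,
      MulAut.conj_apply, inv_inv, show a⁻¹ * (a * y * a⁻¹) * a = y by group]
    exact hW' (Subgroup.mem_zpowers y)
  have hmem' : ((a * y * a⁻¹ : ↥dcov) : fourRu) ∈ tl g 0 := hmem
  obtain ⟨r, s, hs, hsr, hr⟩ := invol_root hg hmem' (fun h => h1 (conj_eq_one_iff.1 (Subtype.ext h : a * y * a⁻¹ = 1)))
    (by rw [← Subgroup.coe_mul, show a * y * a⁻¹ * (a * y * a⁻¹) = a * (y * y) * a⁻¹ by group, h2, mul_one,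
      mul_inv_cancel, OneMemClass.coe_one])
  have hy : ∀ {c : ↥dcov}, lval g r = (c : fourRu) → ∃ k : ↥dcov, k * y * k⁻¹ = c := fun {c} hc =>
    ⟨⟨s, tl_le hg hs⟩ * a, Subtype.ext (by rw [← hc, ← hsr]; simp only [Subgroup.coe_mul, Subgroup.coe_inv]; group)⟩
  rcases hr with rfl | rfl | rfl | ⟨c, hc, rfl⟩
  · exact Or.inl (hy (c := uEl hg) (by simp [lval, uEl]))
  · exfalso
    obtain ⟨k, hk⟩ := hy (c := zEl) (by simp [lval, top_letter hg, zEl])
    refine hn ?_
    rw [show y = k⁻¹ * (k * y * k⁻¹) * k by group, hk, comm_zEl k⁻¹, inv_mul_cancel_right]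
  · exact Or.inr (hy (c := uEl hg * zEl) (w_val hg))
  · obtain ⟨h, m, hin, hodd'⟩ := cert_odd hg hc
    simp only [inT, List.all_eq_true, Nat.blt_eq] at hin
    have hx : lval g c.1 ∈ dcov := tl_le hg (mem_tl fun i hi => ⟨Nat.zero_le _, hin i hi⟩)
    obtain ⟨k, hk⟩ := hy (c := ⟨_, hx⟩) rfl
    set x : ↥dcov := ⟨_, hx⟩
    have hxx : x * x = 1 := by
      rw [← hk, show k * y * k⁻¹ * (k * y * k⁻¹) = k * (y * y) * k⁻¹ by group, h2, mul_one, mul_inv_cancel]
    obtain ⟨q, rfl⟩ := dψ_surjective h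
    set b := q * uEl hg * q⁻¹ with hb
    have hbb : b * b = 1 := by
      rw [hb, show q * uEl hg * q⁻¹ * (q * uEl hg * q⁻¹) = q * (uEl hg * uEl hg) * q⁻¹ by group, uEl_sq, mul_one,
        mul_inv_cancel]
    have hker : (x * b) ^ (2 * m + 1) ∈ dψ.ker := by
      rw [MonoidHom.mem_ker, map_pow, hb, map_mul, map_mul, map_mul, map_inv]
      exact hodd'
    rw [dψ_ker_eq] at hker
    rcases zEl_centre.two _ hker with e | e
    · obtain ⟨t, ht⟩ := conj_of_odd hxx hbb e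
      refine Or.inl ⟨q⁻¹ * t * k, ?_⟩
      rw [show q⁻¹ * t * k * y * (q⁻¹ * t * k)⁻¹ = q⁻¹ * (t * (k * y * k⁻¹) * t⁻¹) * q by group, hk, ht, hb]
      group
    · have hbz : b * zEl * (b * zEl) = 1 := by
        rw [show b * zEl * (b * zEl) = b * (zEl * b) * zEl by group, ← comm_zEl b,
          show b * (b * zEl) * zEl = (b * b) * (zEl * zEl) by group, hbb, zEl_centre.sq, mul_one]
      obtain ⟨t, ht⟩ := conj_of_odd hxx hbz (m := m) (by
        rw [← mul_assoc, (show Commute (x * b) zEl from comm_zEl _).mul_pow, e, pow_succ, pow_mul, sq,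
          zEl_centre.sq, one_pow, one_mul, zEl_centre.sq])
      refine Or.inr ⟨q⁻¹ * t * k, ?_⟩
      rw [show q⁻¹ * t * k * y * (q⁻¹ * t * k)⁻¹ = q⁻¹ * (t * (k * y * k⁻¹) * t⁻¹) * q by group, hk, ht, hb,
        show q * uEl hg * q⁻¹ * zEl = q * (uEl hg * zEl) * q⁻¹ from (conj_mul_z rfl).symm]
      group

variable {G : Type*} [Group G] [Finite G] (S : Comp zEl G)

/-- the involution in the last term of the series is not fused -/
theorem not_fused_w : ¬ S.Fused (uEl hg * zEl) := by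
  intro hF
  obtain ⟨hP, hodd⟩ := sylow_two hg
  obtain ⟨f, hf, hnorm⟩ := S.exists_normalizing hP hodd (y := uEl hg * zEl) (fun t ht => by
    refine Subtype.ext ?_
    rw [Subgroup.coe_mul, Subgroup.coe_mul, Subgroup.coe_mul]
    show (t : fourRu) * (g 13 * iF ^ 2) = g 13 * iF ^ 2 * (t : fourRu)
    have h1 := (uEl_central hg (Subgroup.mem_subgroupOf.1 ht)).eq
    have h2 : (t : fourRu) * iF ^ 2 = iF ^ 2 * (t : fourRu) := congrArg Subtype.val (comm_zEl t)
    rw [← mul_assoc, h1, mul_assoc, h2, mul_assoc]) hF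
  obtain ⟨l, e, hmem, hstep, he7⟩ := exists_nest hg
  have hel : ∀ k, k ≤ 7 → e k ∈ dcov ∧ l k ∈ dcov := fun k hk => ⟨tl_le hg (hmem k hk).1, tl_le hg (hmem k hk).2⟩
  let E : ℕ → ↥dcov := fun k => if h : k ≤ 7 then ⟨e k, (hel k h).1⟩ else 1
  let L : ℕ → ↥dcov := fun k => if h : k ≤ 7 then ⟨l k, (hel k h).2⟩ else 1
  have hE : ∀ k, k ≤ 7 → ((E k : fourRu) = e k ∧ (L k : fourRu) = l k) := fun k hk => by simp [E, L, hk]
  have hEs : ∀ k < 7, E (k + 1) = cm (E k) (L k) := fun k hk => Subtype.ext (by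
    rw [(hE (k + 1) hk).1, hstep k hk]
    simp only [cm, Subgroup.coe_mul, Subgroup.coe_inv, (hE k hk.le).1, (hE k hk.le).2])
  -- the images
  have himg : ∀ x : ↥dcov, (x : fourRu) ∈ tl g 0 → ∃ t : ↥dcov, (t : fourRu) ∈ tl g 0 ∧
      ∃ c ∈ Subgroup.zpowers S.gen, f⁻¹ * S.emb x * f = S.emb t * c := fun x hx => by
    obtain ⟨t, ht, c, hc, e⟩ := hnorm x (Subgroup.mem_subgroupOf.2 hx)
    exact ⟨t, Subgroup.mem_subgroupOf.1 ht, c, hc, e⟩
  choose τ hτ γ hγ heq using fun k (hk : k ≤ 7) => himg (L k) ((hE k hk).2 ▸ (hmem k hk).2)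
  obtain ⟨t0, ht0, c0, hc0, he0⟩ := himg (E 0) ((hE 0 (by norm_num)).1 ▸ (hmem 0 (by norm_num)).1)
  let T : ℕ → ↥dcov := fun k => if h : k ≤ 7 then τ k h else 1
  let A : ℕ → ↥dcov := fun k => Nat.rec t0 (fun i prev => cm prev (T i)) k
  have hA : ∀ k, k ≤ 7 → ∃ c ∈ Subgroup.zpowers S.gen,
      (0 < k → c = 1) ∧ f⁻¹ * S.emb (E k) * f = S.emb (A k) * c := by
    intro k
    induction k with
    | zero => exact fun _ => ⟨c0, hc0, fun h => absurd h (lt_irrefl 0), he0⟩
    | succ k ih =>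
      intro hk
      obtain ⟨c, hc, -, hck⟩ := ih (by omega)
      have hT : T k = τ k (by omega) := dif_pos (by omega : k ≤ 7)
      have h2 := heq k (by omega)
      rw [← hT] at h2
      set d := γ k (by omega)
      have hd : d ∈ Subgroup.zpowers S.gen := hγ k _
      refine ⟨1, one_mem _, fun _ => rfl, ?_⟩
      rw [mul_one, show A (k + 1) = cm (A k) (T k) from rfl, hEs k hk]
      have hcd : Commute c d := by
        obtain ⟨i, hi⟩ := Subgroup.mem_zpowers_iff.1 hc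
        obtain ⟨j, hj⟩ := Subgroup.mem_zpowers_iff.1 hd
        rw [← hi, ← hj]
        exact (Commute.refl _).zpow_zpow _ _
      have hcA : ∀ a : ↥dcov, Commute (S.emb a) c := S.comm_emb (Subgroup.zpowers_le.2 S.gen_mem hc)
      have hdA : ∀ a : ↥dcov, Commute (S.emb a) d := S.comm_emb (Subgroup.zpowers_le.2 S.gen_mem hd)
      simp only [cm, map_mul, map_inv]
      calc f⁻¹ * ((S.emb (E k))⁻¹ * (S.emb (L k))⁻¹ * S.emb (E k) * S.emb (L k)) * f
          = (f⁻¹ * S.emb (E k) * f)⁻¹ * (f⁻¹ * S.emb (L k) * f)⁻¹ * (f⁻¹ * S.emb (E k) * f) *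
            (f⁻¹ * S.emb (L k) * f) := by group
        _ = (S.emb (A k) * c)⁻¹ * (S.emb (T k) * d)⁻¹ * (S.emb (A k) * c) * (S.emb (T k) * d) := by rw [hck, h2]
        _ = c⁻¹ * (S.emb (A k))⁻¹ * d⁻¹ * (S.emb (T k))⁻¹ * S.emb (A k) * (c * S.emb (T k)) * d := by group
        _ = c⁻¹ * (S.emb (A k))⁻¹ * d⁻¹ * (S.emb (T k))⁻¹ * S.emb (A k) * (S.emb (T k) * c) * d := by
            rw [(hcA (T k)).eq]
        _ = c⁻¹ * (S.emb (A k))⁻¹ * d⁻¹ * (S.emb (T k))⁻¹ * S.emb (A k) * S.emb (T k) * (c * d) := by group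
        _ = c⁻¹ * ((S.emb (A k))⁻¹ * d⁻¹) * (S.emb (T k))⁻¹ * S.emb (A k) * S.emb (T k) * (d * c) := by
            rw [hcd.eq]; group
        _ = c⁻¹ * (d⁻¹ * (S.emb (A k))⁻¹) * (S.emb (T k))⁻¹ * S.emb (A k) * S.emb (T k) * (d * c) := by
            rw [(hdA (A k)).inv_inv.eq]
        _ = (d * c)⁻¹ * (S.emb ((A k)⁻¹ * (T k)⁻¹ * A k * T k)) * (d * c) := by
            simp only [map_mul, map_inv]; group
        _ = S.emb ((A k)⁻¹ * (T k)⁻¹ * A k * T k) := by
            rw [mul_assoc, ((hdA _).mul_right (hcA _)).eq, inv_mul_cancel_left]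
        _ = _ := by simp only [map_mul, map_inv]
  obtain ⟨c, -, hc1, hlast⟩ := hA 7 le_rfl
  rw [hc1 (by norm_num), mul_one] at hlast
  have hA7 : A 7 = 1 ∨ A 7 = uEl hg * zEl := by
    rcases nest_last hg (a := fun k => Subtype.val (A k)) (t := fun k => Subtype.val (T k)) (by exact ht0) (fun k hk => by
        simp only [T, dif_pos (show k ≤ 7 by omega)]; exact hτ k _) (fun k _ => by
        show ((cm (A k) (T k) : ↥dcov) : fourRu) = cm (A k : fourRu) (T k)
        simp [cm]) with h | h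
    · exact Or.inl (Subtype.ext h)
    · exact Or.inr (Subtype.ext (h.trans (w_val hg)))
  have hE7 : E 7 = uEl hg * zEl := Subtype.ext (((hE 7 le_rfl).1.trans he7).trans (w_val hg))
  rw [hE7, ← hf, show f⁻¹ * (f * S.z * f⁻¹) * f = S.z by group] at hlast
  have h := S.emb_inj hlast
  rcases hA7 with e7 | e7 <;> rw [e7] at h
  · exact zEl_centre.ne h
  · exact (uEl_ne hg).1 (mul_eq_right.1 h.symm)

/-- the central involution is conjugate to no other involution of the component -/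
theorem fused_eq {y : ↥dcov} (hF : S.Fused y) : y = zEl := by
  have hw := not_fused_w hg S
  by_contra hyn
  -- an involution of the component which is fused is conjugate to the fixed one
  have hclass : ∀ {v : ↥dcov}, S.Fused v → v ≠ zEl → ∃ k, k * v * k⁻¹ = uEl hg := by
    intro v hv hvn
    obtain ⟨f, hf⟩ := hv
    have h2 : v * v = 1 := S.emb_inj (by
      rw [map_mul, ← hf, show f * S.z * f⁻¹ * (f * S.z * f⁻¹) = f * (S.z * S.z) * f⁻¹ by group, S.z_sq, mul_one,
        mul_inv_cancel, map_one])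
    have h1 : v ≠ 1 := by
      rintro rfl
      rw [map_one, conj_eq_one_iff] at hf
      exact S.z_ne hf
    rcases invol_two hg h1 hvn h2 with h | h
    · exact h
    · exact absurd ((S.fused_conj_iff h).1 ⟨f, hf⟩) hw
  have hu : S.Fused (uEl hg) := (S.fused_conj_iff (hclass hF hyn)).1 hF
  -- two commuting involutions which are fused with their product
  obtain ⟨a, b, hab, ha, hb, hc⟩ : ∃ a b : ↥dcov, Commute a b ∧ S.Fused a ∧ S.Fused b ∧ S.Fused (a * b) := by
    have hx : lval g [4, 6, 7] ∈ tl g 0 := mem_tl fun i hi => by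
      simp only [List.mem_cons, List.not_mem_nil, or_false] at hi
      omega
    set x : ↥dcov := ⟨lval g [4, 6, 7], tl_le hg hx⟩
    set t : ↥dcov := ⟨g 0, g_mem hg (by norm_num)⟩
    obtain ⟨-, -, hx2, hxt, hux⟩ := point_ok
    have hxx : x * x = 1 := Subtype.ext (by
      have h := same_val hg hx2
      rw [show [4, 6, 7, 4, 6, 7] = [4, 6, 7] ++ [4, 6, 7] from rfl, lval_append] at h
      exact h)
    have hconj : t⁻¹ * x * t = x * uEl hg := Subtype.ext (by
      have h := same_val hg hxt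
      simp only [lval_cons, show lval g [] = 1 from rfl, mul_one] at h
      show (g 0)⁻¹ * lval g [4, 6, 7] * g 0 = lval g [4, 6, 7] * g 13
      simp only [lval_cons, show lval g [] = 1 from rfl, mul_one, mul_assoc]
      rw [h, inv_mul_cancel_left])
    have hcomm : Commute (uEl hg) x := Subtype.ext (by
      exact (uEl_central hg hx).symm.eq)
    have hx1 : x ≠ 1 := fun h => by
      rw [h, mul_one, inv_mul_cancel, one_mul] at hconj
      exact (uEl_ne hg).1 hconj.symm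
    have hxn : x ≠ zEl := fun h => by
      rw [h, mul_assoc, ← comm_zEl, inv_mul_cancel_left] at hconj
      exact (uEl_ne hg).1 (mul_eq_left.1 hconj.symm)
    rcases invol_two hg hx1 hxn hxx with h | h
    · have hxF : S.Fused x := (S.fused_conj_iff h).2 hu
      refine ⟨x, uEl hg, hcomm.symm, hxF, hu, ?_⟩
      exact (S.fused_conj_iff ⟨t⁻¹, by rw [inv_inv]; exact hconj⟩).1 hxF
    · obtain ⟨k, hk⟩ := h
      have hxz : ∃ k, k * (x * zEl) * k⁻¹ = uEl hg := ⟨k, by
        rw [conj_mul_z hk, mul_assoc, zEl_centre.sq, mul_one]⟩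
      have hxzF : S.Fused (x * zEl) := (S.fused_conj_iff hxz).2 hu
      refine ⟨x * zEl, uEl hg, (Commute.mul_right hcomm (comm_zEl _)).symm, hxzF, hu, ?_⟩
      refine (S.fused_conj_iff ⟨t⁻¹, ?_⟩).1 hxzF
      rw [conj_mul_z (show t⁻¹ * x * t⁻¹⁻¹ = x * uEl hg by rw [inv_inv]; exact hconj), mul_assoc, comm_zEl,
        ← mul_assoc]
  obtain ⟨f, hf⟩ := ha
  obtain ⟨f1, hf1⟩ := hb
  obtain ⟨f2, hf2⟩ := hc
  have hfa : f⁻¹ * S.emb a * f = S.z := by rw [← hf]; group
  have hcomz : Commute (f⁻¹ * S.emb b * f) S.z := by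
    have := (hab.symm.map S.emb).map (MulAut.conj f⁻¹).toMonoidHom
    simp only [MulEquiv.coe_toMonoidHom, MulAut.conj_apply, inv_inv, hfa] at this
    exact this
  have e1 : f⁻¹ * f1 * S.z * (f⁻¹ * f1)⁻¹ = f⁻¹ * S.emb b * f := by rw [← hf1]; group
  obtain ⟨v, hv⟩ := S.conj_in (f⁻¹ * f1) (e1.symm ▸ hcomz)
  rw [e1] at hv
  have e2 : f⁻¹ * f2 * S.z * (f⁻¹ * f2)⁻¹ = S.emb (zEl * v) := by
    rw [map_mul, ← hv]
    conv_rhs => rw [show S.emb zEl = S.z from rfl, ← hfa]
    rw [show f⁻¹ * f2 * S.z * (f⁻¹ * f2)⁻¹ = f⁻¹ * (f2 * S.z * f2⁻¹) * f by group, hf2, map_mul]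
    group
  have hvn : v ≠ zEl := fun h => by
    rw [h, zEl_centre.sq, map_one, conj_eq_one_iff] at e2
    exact S.z_ne e2
  obtain ⟨k, hk⟩ := hclass ⟨_, e1.trans hv⟩ hvn
  exact hw ((S.fused_conj_iff ⟨k, by rw [← comm_zEl v, conj_mul_z hk]⟩).1 ⟨_, e2⟩)

end Cfsg.Agent.Spor.RuStandard
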